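import Cfsg.Agent.Lib.Solvable.KrekninKostrikin
import Mathlib.Data.Fintype.BigOperators
import Mathlib.Algebra.Group.Pi.Basic

/-!
Lie rings graded by an elementary abelian group which are spanned by homogeneous elements from
finitely many subgroups of nilpotently acting elements.

The first part is Kreknin's theorem for a `ZMod p`-graded Lie ring whose component of degree zero
acts nilpotently; the second part deduces that such a Lie ring is nilpotent of bounded class.
-/

set_option autoImplicit false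

namespace CfsgLib.PGroup.FixedTerms

open CfsgLib.Solvable.KrekninKostrikin

variable {M : Type*} [LieRing M]

/-- The additive subgroup spanned by the brackets of `P` with `S`. -/
def Br (S P : AddSubgroup M) : AddSubgroup M :=
  AddSubgroup.closure {z | ∃ x ∈ P, ∃ y ∈ S, ⁅x, y⁆ = z}

theorem lie_mem_Br {S P : AddSubgroup M} {x y : M} (hx : x ∈ P) (hy : y ∈ S) : ⁅x, y⁆ ∈ Br S P :=
  AddSubgroup.subset_closure ⟨x, hx, y, hy, rfl⟩

theorem Br_le {S P T : AddSubgroup M} (h : ∀ x ∈ P, ∀ y ∈ S, ⁅x, y⁆ ∈ T) : Br S P ≤ T :=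
  (AddSubgroup.closure_le T).mpr (by rintro z ⟨x, hx, y, hy, rfl⟩; exact h x hx y hy)

theorem Br_mono {S S' P P' : AddSubgroup M} (hS : S ≤ S') (hP : P ≤ P') : Br S P ≤ Br S' P' :=
  Br_le fun _ hx _ hy => lie_mem_Br (hP hx) (hS hy)

/-- Elements of a supremum of subgroups, as arguments of the bracket. -/
theorem lie_mem_of_iSup {ι κ : Sort*} {A : ι → AddSubgroup M} {B : κ → AddSubgroup M}
    {T : AddSubgroup M} (h : ∀ i j, ∀ x ∈ A i, ∀ y ∈ B j, ⁅x, y⁆ ∈ T) {x y : M}
    (hx : x ∈ ⨆ i, A i) (hy : y ∈ ⨆ j, B j) : ⁅x, y⁆ ∈ T := by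
  refine AddSubgroup.iSup_induction A (C := fun x => ⁅x, y⁆ ∈ T) hx (fun i a ha => ?_)
    (by rw [zero_lie]; exact zero_mem _) (fun u v hu hv => by rw [add_lie]; exact add_mem hu hv)
  exact AddSubgroup.iSup_induction B (C := fun y => ⁅a, y⁆ ∈ T) hy (fun j b hb => h i j a ha b hb)
    (by rw [lie_zero]; exact zero_mem _) (fun u v hu hv => by rw [lie_add]; exact add_mem hu hv)

theorem Br_sup_le (S P Q : AddSubgroup M) : Br S (P ⊔ Q) ≤ Br S P ⊔ Br S Q := by
  refine Br_le fun x hx y hy => ?_
  obtain ⟨u, hu, v, hv, rfl⟩ := AddSubgroup.mem_sup.mp hx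
  rw [add_lie]
  exact add_mem (AddSubgroup.mem_sup_left (lie_mem_Br hu hy))
    (AddSubgroup.mem_sup_right (lie_mem_Br hv hy))

theorem Br_iSup_le {ι : Sort*} (S : AddSubgroup M) (P : ι → AddSubgroup M) :
    Br S (⨆ i, P i) ≤ ⨆ i, Br S (P i) := by
  refine Br_le fun x hx y hy => ?_
  refine AddSubgroup.iSup_induction P (C := fun x => ⁅x, y⁆ ∈ ⨆ i, Br S (P i)) hx
    (fun i a ha => le_iSup (fun i => Br S (P i)) i (lie_mem_Br ha hy))
    (by rw [zero_lie]; exact zero_mem _) (fun u v hu hv => by rw [add_lie]; exact add_mem hu hv)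

theorem Br_iterate_mono {S S' : AddSubgroup M} (hS : S ≤ S') : ∀ (q : ℕ) {P P' : AddSubgroup M},
    P ≤ P' → (Br S)^[q] P ≤ (Br S')^[q] P'
  | 0, _, _, h => h
  | q + 1, _, _, h => by
    rw [Function.iterate_succ_apply', Function.iterate_succ_apply']
    exact Br_mono hS (Br_iterate_mono hS q h)

theorem Br_iterate_bot (S : AddSubgroup M) : ∀ q : ℕ, (Br S)^[q] (⊥ : AddSubgroup M) = ⊥
  | 0 => rfl
  | q + 1 => by
    rw [Function.iterate_succ_apply', Br_iterate_bot S q, eq_bot_iff]
    refine Br_le fun x hx y _ => ?_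
    rw [AddSubgroup.mem_bot] at hx ⊢
    rw [hx, zero_lie]

theorem Br_iterate_iSup_le {ι : Sort*} (S : AddSubgroup M) (P : ι → AddSubgroup M) :
    ∀ q : ℕ, (Br S)^[q] (⨆ i, P i) ≤ ⨆ i, (Br S)^[q] (P i)
  | 0 => le_rfl
  | q + 1 => by
    simp only [Function.iterate_succ_apply']
    exact (Br_mono le_rfl (Br_iterate_iSup_le S P q)).trans (Br_iSup_le S _)

theorem lie_lie_eq (x y z : M) : ⁅⁅x, y⁆, z⁆ = ⁅⁅x, z⁆, y⁆ + ⁅x, ⁅y, z⁆⁆ := by
  rw [leibniz_lie x y z, ← lie_skew y ⁅x, z⁆]; abel

theorem lie_lie_eq' (x y z : M) : ⁅x, ⁅y, z⁆⁆ = ⁅⁅x, y⁆, z⁆ - ⁅⁅x, z⁆, y⁆ := by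
  rw [lie_lie_eq x y z]; abel

/-! ### Kreknin's theorem with a nilpotently acting component of degree zero -/

section Kreknin

variable {p : ℕ}

/-- The degree `k` part of the subring generated by the components of degree `> s`. -/
def gen (N : ZMod p → AddSubgroup M) (s : ℕ) (k : ZMod p) : AddSubgroup M where
  carrier := {x | InGen N s k x}
  zero_mem' := .zero k
  add_mem' := fun h h' => h.add h'
  neg_mem' := fun h => h.neg

theorem mem_gen {N : ZMod p → AddSubgroup M} {s : ℕ} {k : ZMod p} {x : M} :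
    x ∈ gen N s k ↔ InGen N s k x := Iff.rfl

theorem gen_mono {N N' : ZMod p → AddSubgroup M} (h : ∀ k, N' k ≤ N k) (s : ℕ) (k : ZMod p) :
    gen N' s k ≤ gen N s k := by
  intro x hx
  rw [mem_gen] at hx ⊢
  induction hx with
  | letter hl hy => exact .letter hl (h _ hy)
  | zero k => exact .zero k
  | add _ _ h1 h2 => exact h1.add h2
  | neg _ h1 => exact h1.neg
  | brk _ hl hy h1 => exact h1.brk hl (h _ hy)

variable {N : ZMod p → AddSubgroup M}

theorem gen_lie_zero (hN : Closed N) {s : ℕ} {k : ZMod p} {x : M} (hx : InGen N s k x) :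
    ∀ {z : M}, z ∈ N 0 → InGen N s k ⁅x, z⁆ := by
  induction hx with
  | @letter l x hl hy =>
    intro z hz
    refine .letter hl ?_
    simpa using hN l 0 x hy z hz
  | zero k => intro z _; rw [zero_lie]; exact .zero k
  | add _ _ h1 h2 => intro z hz; rw [add_lie]; exact (h1 hz).add (h2 hz)
  | neg _ h1 => intro z hz; rw [neg_lie]; exact (h1 hz).neg
  | @brk k l u v hu hl hv h1 =>
    intro z hz
    rw [lie_lie_eq u v z]
    exact ((h1 hz).brk hl hv).add (hu.brk hl (by simpa using hN l 0 v hv z hz))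

theorem Br_gen_le (hN : Closed N) (s : ℕ) (k : ZMod p) : Br (N 0) (gen N s k) ≤ gen N s k :=
  Br_le fun _ hx _ hy => gen_lie_zero hN hx hy

/-- The bound for the derived length. -/
def kt (n : ℕ) : ℕ → ℕ
  | 0 => n
  | s + 1 => n * (kt n s + 1) + kt n s

theorem D_zero_le (hN : Closed N) : ∀ t : ℕ,
    D N t 0 ≤ gen N 0 0 ⊔ (Br (N 0))^[t] (N 0)
  | 0 => le_sup_right
  | t + 1 => br_le fun i j hij a ha b hb => by
    by_cases hi : i = 0
    · subst hi
      rw [zero_add] at hij
      subst hij
      have h : Br (N 0) (gen N 0 0 ⊔ (Br (N 0))^[t] (N 0))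
          ≤ gen N 0 0 ⊔ (Br (N 0))^[t + 1] (N 0) := by
        refine (Br_sup_le _ _ _).trans (sup_le_sup (Br_gen_le hN 0 0) ?_)
        rw [Function.iterate_succ_apply']
      exact h (lie_mem_Br (D_zero_le hN t ha) (D_le hN t 0 hb))
    · have hj : j ≠ 0 := fun h => hi (by rwa [h, add_zero] at hij)
      refine AddSubgroup.mem_sup_left ?_
      rw [mem_gen, ← hij]
      exact InGen.brk (.letter (Nat.pos_of_ne_zero fun h => hi ((ZMod.val_eq_zero i).mp h))
        (D_le hN t i ha)) (Nat.pos_of_ne_zero fun h => hj ((ZMod.val_eq_zero j).mp h))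
        (D_le hN t j hb)

variable [Fact p.Prime]

/-- The key step: a bracket which lands in degree `s + 1`. -/
theorem lie_gen_step (hN : Closed N) {s : ℕ} (hs : s + 1 < p) {j : ZMod p} {b : M}
    (hb : InGen N s j b) : ∀ {i : ZMod p} {a : M}, a ∈ N i → i.val ≤ s →
      i + j = ((s + 1 : ℕ) : ZMod p) →
      ⁅a, b⁆ ∈ gen N (s + 1) ((s + 1 : ℕ) : ZMod p) ⊔ Br (N 0) (N ((s + 1 : ℕ) : ZMod p)) := by
  have hp : p.Prime := Fact.out
  induction hb with
  | @letter l x hl hx =>
    intro i a ha hi hij
    by_cases hi0 : i = 0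
    · subst hi0
      rw [zero_add] at hij
      subst hij
      rw [← lie_skew]
      exact AddSubgroup.mem_sup_right (neg_mem (lie_mem_Br hx ha))
    exfalso
    have hipos : 0 < i.val := Nat.pos_of_ne_zero fun h => hi0 ((ZMod.val_eq_zero i).mp h)
    have e : l = ((s + 1 - i.val : ℕ) : ZMod p) := by
      rw [Nat.cast_sub (by omega), ZMod.natCast_zmod_val]
      exact eq_sub_of_add_eq' hij
    rw [e, ZMod.val_cast_of_lt (by omega)] at hl
    omega
  | zero k => intro i a _ _ _; rw [lie_zero]; exact zero_mem _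
  | add _ _ ih1 ih2 =>
    intro i a ha hi hij
    rw [lie_add]; exact add_mem (ih1 ha hi hij) (ih2 ha hi hij)
  | neg _ ih => intro i a ha hi hij; rw [lie_neg]; exact neg_mem (ih ha hi hij)
  | @brk k l u v hu hl hv ih =>
    intro i a ha hi hij
    have hu' : u ∈ N k := hu.mem hN
    have hlp : l.val < p := ZMod.val_lt l
    have hip : i.val < p := ZMod.val_lt i
    rw [lie_lie_eq' a u v]
    refine sub_mem ?_ ?_
    · by_cases hls : l.val = s + 1
      · have hl' : l = ((s + 1 : ℕ) : ZMod p) := by rw [← hls, ZMod.natCast_zmod_val]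
        have h0 : i + k = 0 := by
          rw [← hl', ← add_assoc] at hij
          exact add_eq_right.mp hij
        have h := hN i k a ha u hu'
        rw [h0] at h
        rw [← lie_skew]
        exact AddSubgroup.mem_sup_right (neg_mem (lie_mem_Br (hl' ▸ hv) h))
      · have e2 : i + k = ((p + (s + 1) - l.val : ℕ) : ZMod p) := by
          rw [Nat.cast_sub (by omega), Nat.cast_add, ZMod.natCast_self, zero_add,
            ZMod.natCast_zmod_val, ← hij]
          ring
        refine AddSubgroup.mem_sup_left ?_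
        rw [mem_gen, ← hij, ← add_assoc]
        refine InGen.brk (.letter ?_ (hN i k a ha u hu')) (by omega) hv
        rw [e2, ZMod.val_cast_of_lt (by omega)]
        omega
    · by_cases hil0 : i + l = 0
      · have h := hN i l a ha v hv
        rw [hil0] at h
        have hk : k = ((s + 1 : ℕ) : ZMod p) := by
          rw [← hij, show i + (k + l) = i + l + k by ring, hil0, zero_add]
        rw [← lie_skew]
        exact AddSubgroup.mem_sup_right (neg_mem (lie_mem_Br (hk ▸ hu') h))
      by_cases hlt : i.val + l.val < p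
      · by_cases hls : i = 0 ∧ l.val = s + 1
        · obtain ⟨rfl, hls⟩ := hls
          have hl' : l = ((s + 1 : ℕ) : ZMod p) := by rw [← hls, ZMod.natCast_zmod_val]
          have hk : k = 0 := by
            rw [zero_add, ← hl'] at hij
            exact add_eq_right.mp hij
          subst hk
          have h := hN 0 l a ha v hv
          rw [zero_add, hl'] at h
          exact AddSubgroup.mem_sup_right (lie_mem_Br h hu')
        have hgt : s + 1 < i.val + l.val := by
          by_cases hi0 : i = 0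
          · subst hi0
            rw [ZMod.val_zero]
            have : l.val ≠ s + 1 := fun h => hls ⟨rfl, h⟩
            omega
          · have hipos : 0 < i.val := Nat.pos_of_ne_zero fun h => hi0 ((ZMod.val_eq_zero i).mp h)
            omega
        have e3 : k = ((p + (s + 1) - (i.val + l.val) : ℕ) : ZMod p) := by
          rw [Nat.cast_sub (by omega), Nat.cast_add, ZMod.natCast_self, zero_add,
            Nat.cast_add i.val, ZMod.natCast_zmod_val, ZMod.natCast_zmod_val, ← hij]
          ring
        refine AddSubgroup.mem_sup_left ?_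
        rw [mem_gen, ← hij, show i + (k + l) = i + l + k by ring]
        refine InGen.brk (.letter ?_ (hN i l a ha v hv)) ?_ hu'
        · rw [ZMod.val_add_of_lt hlt]; omega
        · rw [e3, ZMod.val_cast_of_lt (by omega)]
          omega
      · refine ih (hN i l a ha v hv) ?_ (by rw [← hij]; ring)
        rw [ZMod.val_add_of_le (not_lt.mp hlt)]
        omega

/-- **Kreknin**, with a nilpotently acting component of degree zero. -/
theorem D_le_gen (n : ℕ) : ∀ (s : ℕ), s < p → ∀ (N : ZMod p → AddSubgroup M), Closed N →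
    (∀ k, (Br (N 0))^[n] (N k) = ⊥) → ∀ k : ZMod p, D N (kt n s) k ≤ gen N s k := by
  intro s
  induction s with
  | zero =>
    intro _ N hN hnil k
    by_cases hk : k = 0
    · subst hk
      refine (D_zero_le hN n).trans ?_
      rw [hnil 0, sup_bot_eq]
    · intro x hx
      exact .letter (Nat.pos_of_ne_zero fun h => hk ((ZMod.val_eq_zero k).mp h)) (D_le hN _ _ hx)
  | succ s ih =>
    intro hs N hN hnil
    have hp : p.Prime := Fact.out
    set t := kt n s with ht
    set c : ZMod p := ((s + 1 : ℕ) : ZMod p) with hc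
    have hcv : c.val = s + 1 := ZMod.val_cast_of_lt hs
    have hnil' : ∀ N' : ZMod p → AddSubgroup M, (∀ k, N' k ≤ N k) →
        ∀ k, (Br (N' 0))^[n] (N' k) = ⊥ := fun N' h k =>
      le_bot_iff.mp ((Br_iterate_mono (h 0) n (h k)).trans (hnil k).le)
    have step : ∀ N' : ZMod p → AddSubgroup M, Closed N' → (∀ k, N' k ≤ N k) →
        D N' (t + 1) c ≤ gen N' (s + 1) c ⊔ Br (N' 0) (N' c) := by
      intro N' hN' hle
      refine br_le fun i j hij a ha b hb => ?_
      have ha' : a ∈ N' i := D_le hN' t i ha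
      have hb' : b ∈ N' j := D_le hN' t j hb
      have hip : i.val < p := ZMod.val_lt i
      rcases le_or_gt i.val s with hi | hi
      · exact lie_gen_step hN' hs (ih (by omega) N' hN' (hnil' N' hle) j hb) ha' hi hij
      by_cases hi' : i.val = s + 1
      · have hi'' : i = c := by rw [hc, ← hi', ZMod.natCast_zmod_val]
        subst hi''
        have : j = 0 := add_eq_left.mp hij
        subst this
        exact AddSubgroup.mem_sup_right (lie_mem_Br ha' hb')
      refine AddSubgroup.mem_sup_left ?_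
      rw [mem_gen, ← hij]
      refine InGen.brk (.letter (by omega) ha') ?_ hb'
      have e : j = ((p + (s + 1) - i.val : ℕ) : ZMod p) := by
        rw [Nat.cast_sub (by omega), Nat.cast_add, ZMod.natCast_self, zero_add,
          ZMod.natCast_zmod_val, ← hc, ← hij]
        ring
      rw [e, ZMod.val_cast_of_lt (by omega)]
      omega
    have iter : ∀ j : ℕ, D N (j * (t + 1)) c ≤ gen N (s + 1) c ⊔ (Br (N 0))^[j] (N c) := by
      intro j
      induction j with
      | zero => rw [Nat.zero_mul]; exact le_sup_right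
      | succ j hj =>
        rw [Nat.succ_mul, ← D_add]
        refine (step _ (D_closed hN _) (D_le hN _)).trans (sup_le ?_ ?_)
        · exact (gen_mono (D_le hN _) _ _).trans le_sup_left
        · refine (Br_mono (D_le hN _ 0) hj).trans ((Br_sup_le _ _ _).trans (sup_le_sup ?_ ?_))
          · exact Br_gen_le hN _ _
          · rw [Function.iterate_succ_apply']
    have hstep : ∀ k : ZMod p, s < k.val → D N (n * (t + 1)) k ≤ gen N (s + 1) k := by
      intro k hk
      by_cases hks : s + 1 < k.val
      · exact fun x hx => .letter hks (D_le hN _ _ hx)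
      have hkc : k = c := by rw [hc, show s + 1 = k.val by omega, ZMod.natCast_zmod_val]
      subst hkc
      refine (iter n).trans ?_
      rw [hnil, sup_bot_eq]
    intro k x hx
    rw [show kt n (s + 1) = n * (t + 1) + t from rfl, ← D_add] at hx
    have h : InGen (D N (n * (t + 1))) s k x :=
      ih (by omega) _ (D_closed hN _) (hnil' _ (D_le hN _)) k hx
    clear hx
    rw [mem_gen]
    induction h with
    | letter hl hy => exact hstep _ hl hy
    | zero k => exact .zero k
    | add _ _ h1 h2 => exact h1.add h2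
    | neg _ h1 => exact h1.neg
    | brk _ hl hy h1 => exact InGen.lie (hstep _ hl hy) h1

/-- The derived series terminates. -/
theorem D_eq_bot_of_zero_nil {n : ℕ} (hN : Closed N) (hnil : ∀ k, (Br (N 0))^[n] (N k) = ⊥)
    (k : ZMod p) : D N (kt n (p - 1)) k = ⊥ := by
  have hp : p.Prime := Fact.out
  rw [eq_bot_iff]
  intro x hx
  rw [AddSubgroup.mem_bot]
  have h : InGen N (p - 1) k x := D_le_gen n (p - 1) (by have := hp.pos; omega) N hN hnil k hx
  clear hx
  induction h with
  | @letter l x hl hx => have := ZMod.val_lt l; omega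
  | zero k => rfl
  | add _ _ h1 h2 => rw [h1, h2, add_zero]
  | neg _ h1 => rw [h1, neg_zero]
  | brk _ _ _ h1 => rw [h1, zero_lie]

end Kreknin

/-! ### Sums of nilpotently acting subgroups -/

/-- If `J` acts nilpotently and the finitely many `T a`, each acting nilpotently, bracket each
other into themselves modulo `J`, then their sum acts nilpotently. -/
theorem act_nil {τ : Type*} [Fintype τ] (T : τ → AddSubgroup M) (J : AddSubgroup M) {n R c : ℕ}
    (hR : Fintype.card τ ≤ R) (hTT : ∀ a b, ∀ x ∈ T a, ∀ y ∈ T b, ⁅x, y⁆ ∈ T a ⊔ J)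
    (hJT : ∀ b, ∀ x ∈ J, ∀ y ∈ T b, ⁅x, y⁆ ∈ J) (hJ : (Br J)^[n] ⊤ = ⊥)
    (hT : ∀ a, (Br (T a))^[c + 1] ⊤ = ⊥) :
    (Br (⨆ a, T a))^[n * (R * c + 1)] ⊤ = ⊥ := by
  classical
  set q₀ := R * c + 1 with hq₀
  let P : ℕ → AddSubgroup M := fun m => (Br J)^[m] ⊤
  have hPsucc : ∀ m, P (m + 1) = Br J (P m) := fun m => Function.iterate_succ_apply' _ _ _
  have hPT : ∀ m b, Br (T b) (P m) ≤ P m := by
    intro m
    induction m with
    | zero => exact fun b => le_top
    | succ m ih =>
      intro b
      refine Br_le fun x hx z hz => ?_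
      rw [hPsucc] at hx ⊢
      induction hx using AddSubgroup.closure_induction with
      | mem u hu =>
        obtain ⟨v, hv, y, hy, rfl⟩ := hu
        rw [lie_lie_eq v y z]
        exact add_mem (lie_mem_Br (ih b (lie_mem_Br hv hz)) hy) (lie_mem_Br hv (hJT b y hy z hz))
      | zero => rw [zero_lie]; exact zero_mem _
      | add u v _ _ h1 h2 => rw [add_lie]; exact add_mem h1 h2
      | neg u _ h1 => rw [neg_lie]; exact neg_mem h1
  have key : ∀ m, (Br (⨆ a, T a))^[q₀] (P m) ≤ P (m + 1) := by
    intro m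
    let Y : τ → ℕ → AddSubgroup M := fun a q => (Br (T a))^[q] (P m) ⊔ P (m + 1)
    have hle : ∀ a q, (Br (T a))^[q] (P m) ≤ P m := by
      intro a q
      induction q with
      | zero => exact le_rfl
      | succ q ih =>
        rw [Function.iterate_succ_apply']
        exact (Br_mono le_rfl ih).trans (hPT m a)
    have hY1 : ∀ a q, Br (T a) (Y a q) ≤ Y a (q + 1) := by
      intro a q
      refine (Br_sup_le _ _ _).trans (sup_le_sup (le_of_eq ?_) (hPT _ _))
      rw [Function.iterate_succ_apply']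
    have hYinv : ∀ a q b, Br (T b) (Y a q) ≤ Y a q := by
      intro a q
      induction q with
      | zero => exact fun b => (Br_sup_le _ _ _).trans (sup_le_sup (hPT m b) (hPT _ b))
      | succ q ih =>
        intro b
        refine (Br_sup_le _ _ _).trans (sup_le ?_ ((hPT _ b).trans le_sup_right))
        refine Br_le fun x hx z hz => ?_
        rw [Function.iterate_succ_apply'] at hx
        induction hx using AddSubgroup.closure_induction with
        | mem u hu =>
          obtain ⟨v, hv, y, hy, rfl⟩ := hu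
          rw [lie_lie_eq v y z]
          refine add_mem (hY1 a q (lie_mem_Br (ih b (lie_mem_Br (AddSubgroup.mem_sup_left hv) hz))
            hy)) ?_
          obtain ⟨y₁, hy₁, y₂, hy₂, e⟩ := AddSubgroup.mem_sup.mp (hTT a b y hy z hz)
          rw [← e, lie_add]
          refine add_mem (hY1 a q (lie_mem_Br (AddSubgroup.mem_sup_left hv) hy₁))
            (AddSubgroup.mem_sup_right ?_)
          rw [hPsucc]
          exact lie_mem_Br (hle a q hv) hy₂
        | zero => rw [zero_lie]; exact zero_mem _
        | add u v _ _ h1 h2 => rw [add_lie]; exact add_mem h1 h2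
        | neg u _ h1 => rw [neg_lie]; exact neg_mem h1
    have hcount : ∀ q, (Br (⨆ a, T a))^[q] (P m) ≤
        ⨆ f : {f : τ → ℕ // ∑ a, f a = q}, ⨅ a, Y a (f.1 a) := by
      intro q
      induction q with
      | zero =>
        exact le_iSup_of_le ⟨fun _ => 0, by simp⟩ (le_iInf fun a => le_sup_left)
      | succ q ih =>
        rw [Function.iterate_succ_apply']
        refine Br_le fun x hx y hy => ?_
        refine lie_mem_of_iSup (A := fun f : {f : τ → ℕ // ∑ a, f a = q} => ⨅ a, Y a (f.1 a))
          (B := T) (fun f b u hu z hz => ?_) (ih hx) hy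
        rw [AddSubgroup.mem_iInf] at hu
        refine le_iSup (fun f : {f : τ → ℕ // ∑ a, f a = q + 1} => ⨅ a, Y a (f.1 a))
          ⟨fun a => f.1 a + if a = b then 1 else 0, by
            rw [Finset.sum_add_distrib, f.2, Finset.sum_ite_eq', if_pos (Finset.mem_univ b)]⟩ ?_
        rw [AddSubgroup.mem_iInf]
        intro a
        show _ ∈ Y a (f.1 a + if a = b then 1 else 0)
        by_cases hab : a = b
        · subst hab
          rw [if_pos rfl]
          exact hY1 a _ (lie_mem_Br (hu a) hz)
        · rw [if_neg hab, add_zero]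
          exact hYinv a _ b (lie_mem_Br (hu a) hz)
    refine (hcount q₀).trans (iSup_le fun f => ?_)
    obtain ⟨a, ha⟩ : ∃ a, c + 1 ≤ f.1 a := by
      by_contra hcon
      push Not at hcon
      have h1 : ∑ a, f.1 a ≤ ∑ _a : τ, c :=
        Finset.sum_le_sum fun a _ => Nat.lt_succ_iff.mp (hcon a)
      rw [f.2, Finset.sum_const, Finset.card_univ, smul_eq_mul] at h1
      have h2 : Fintype.card τ * c ≤ R * c := Nat.mul_le_mul_right c hR
      omega
    refine (iInf_le _ a).trans (sup_le ?_ le_rfl)
    obtain ⟨d, hd⟩ := Nat.exists_eq_add_of_le ha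
    rw [hd, Nat.add_comm, Function.iterate_add_apply]
    refine le_trans (Br_iterate_mono le_rfl d (Br_iterate_mono le_rfl (c + 1) le_top)) ?_
    rw [hT, Br_iterate_bot]
    exact bot_le
  have hall : ∀ m, (Br (⨆ a, T a))^[m * q₀] ⊤ ≤ P m := by
    intro m
    induction m with
    | zero => rw [Nat.zero_mul]; exact le_top
    | succ m ih =>
      rw [Nat.succ_mul, Nat.add_comm, Function.iterate_add_apply]
      exact (Br_iterate_mono le_rfl q₀ ih).trans (key m)
  exact le_bot_iff.mp ((hall n).trans hJ.le)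

/-! ### The derived series of a subgroup -/

/-- The derived series. -/
def ser (S : AddSubgroup M) : ℕ → AddSubgroup M
  | 0 => S
  | j + 1 => Br (ser S j) (ser S j)

theorem ser_succ_le {S : AddSubgroup M} (hS : Br S S ≤ S) : ∀ j, ser S (j + 1) ≤ ser S j
  | 0 => hS
  | j + 1 => Br_mono (ser_succ_le hS j) (ser_succ_le hS j)

theorem ser_le_total {p : ℕ} {N : ZMod p → AddSubgroup M} {S : AddSubgroup M} (h : S ≤ total N) :
    ∀ j, ser S j ≤ total (D N j)
  | 0 => h
  | j + 1 => Br_le fun _ hx _ hy => total_lie j (ser_le_total h j hx) (ser_le_total h j hy)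

/-! ### The main theorem -/

section Main

variable {p k : ℕ} {ι : Type*} [Fintype ι]

/-- The bound. -/
def bnd (p k R c : ℕ) : ℕ → ℕ
  | 0 => R * c + 1
  | m + 1 => (R * p ^ k * c + 1) ^ kt (bnd p k R c m) (p - 1)

/-- The degrees supported by the first `m` coordinates. -/
def Supp (p k : ℕ) (m : ℕ) (w : Fin k → ZMod p) : Prop :=
  ∀ i : Fin k, m ≤ (i : ℕ) → w i = 0

theorem Supp.add {m : ℕ} {w w' : Fin k → ZMod p} (h : Supp p k m w) (h' : Supp p k m w') :
    Supp p k m (w + w') := fun i hi => by rw [Pi.add_apply, h i hi, h' i hi, add_zero]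

/-- A Lie ring, graded by an elementary abelian group and spanned by homogeneous elements from
finitely many families `P i` of nilpotently acting elements which are closed under bracket, is
nilpotent of bounded class. -/
theorem nil_of_types [Fact p.Prime] (E : (Fin k → ZMod p) → AddSubgroup M)
    (P U : ι → AddSubgroup M) {R c : ℕ} (hR : Fintype.card ι ≤ R)
    (hE : ∀ w w', ∀ x ∈ E w, ∀ y ∈ E w', ⁅x, y⁆ ∈ E (w + w')) (htop : ⨆ w, E w = ⊤)
    (hPU : ∀ i, P i ≤ U i) (hU : ∀ i, (Br (U i))^[c + 1] ⊤ = ⊥)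
    (hid : ∀ i, ∀ x ∈ U i, ∀ y ∈ E 0, ⁅x, y⁆ ∈ U i) (hspan : ∀ w, E w ≤ ⨆ i, P i ⊓ E w)
    (hclose : ∀ i j w w', ∃ l, ∀ x ∈ P i ⊓ E w, ∀ y ∈ P j ⊓ E w', ⁅x, y⁆ ∈ P l) :
    (Br (⊤ : AddSubgroup M))^[bnd p k R c k] ⊤ = ⊥ := by
  classical
  let L : ℕ → AddSubgroup M := fun m => ⨆ w : {w : Fin k → ZMod p // Supp p k m w}, E w.1
  suffices h : ∀ m ≤ k, (Br (L m))^[bnd p k R c m] ⊤ = ⊥ by
    have hL : L k = ⊤ := by
      refine top_le_iff.mp (htop.ge.trans (iSup_le fun w => ?_))
      exact le_iSup_of_le ⟨w, fun i hi => absurd i.2 (not_lt.mpr hi)⟩ le_rfl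
    have h' := h k le_rfl
    rwa [hL] at h'
  intro m
  induction m with
  | zero =>
    intro _
    let T : ι → AddSubgroup M := fun i => U i ⊓ E 0
    have hL : L 0 ≤ ⨆ i, T i := by
      refine iSup_le fun w => ?_
      rw [show w.1 = 0 from funext fun i => w.2 i (Nat.zero_le _)]
      exact (hspan 0).trans (iSup_mono fun i => inf_le_inf_right _ (hPU i))
    have h := act_nil T ⊥ (n := 1) hR
      (fun a b x hx y hy => AddSubgroup.mem_sup_left ⟨hid a x hx.1 y hy.2, by
        simpa using hE 0 0 x hx.2 y hy.2⟩)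
      (fun b x hx y _ => by rw [AddSubgroup.mem_bot] at hx ⊢; rw [hx, zero_lie])
      (by
        rw [Function.iterate_one, eq_bot_iff]
        refine Br_le fun x _ y hy => ?_
        rw [AddSubgroup.mem_bot] at hy ⊢
        rw [hy, lie_zero])
      (fun a => le_bot_iff.mp ((Br_iterate_mono inf_le_left _ le_top).trans (hU a).le))
    rw [Nat.one_mul] at h
    exact le_bot_iff.mp ((Br_iterate_mono hL _ le_top).trans h.le)
  | succ m ih =>
    intro hm
    have hn := ih (by omega)
    set n := bnd p k R c m with hndef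
    let i₀ : Fin k := ⟨m, by omega⟩
    let N : ZMod p → AddSubgroup M := fun j =>
      ⨆ w : {w : Fin k → ZMod p // Supp p k (m + 1) w ∧ w i₀ = j}, E w.1
    have hN : Closed N := by
      intro i j x hx y hy
      refine lie_mem_of_iSup (fun w w' a ha b hb => ?_) hx hy
      exact le_iSup (fun w : {w : Fin k → ZMod p // Supp p k (m + 1) w ∧ w i₀ = i + j} => E w.1)
        ⟨w.1 + w'.1, w.2.1.add w'.2.1, by rw [Pi.add_apply, w.2.2, w'.2.2]⟩
        (hE _ _ a ha b hb)
    have hN0 : N 0 ≤ L m := iSup_le fun w => le_iSup_of_le ⟨w.1, fun i hi => by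
      by_cases hi' : (i : ℕ) = m
      · rw [show i = i₀ from Fin.ext hi']; exact w.2.2
      · exact w.2.1 i (by omega)⟩ le_rfl
    have hnil : ∀ j, (Br (N 0))^[n] (N j) = ⊥ := fun j =>
      le_bot_iff.mp ((Br_iterate_mono hN0 n le_top).trans hn.le)
    set f := kt n (p - 1) with hf
    have hD : ∀ j, D N f j = ⊥ := D_eq_bot_of_zero_nil hN hnil
    set S := L (m + 1) with hS
    have htot : S ≤ total N := iSup_le fun w => le_trans
      (le_iSup_of_le (f := fun w' : {w' : Fin k → ZMod p // Supp p k (m + 1) w' ∧ w' i₀ = w.1 i₀} =>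
        E w'.1) ⟨w.1, w.2, rfl⟩ le_rfl) (le_iSup N (w.1 i₀))
    have hSS : Br S S ≤ S := Br_le fun x hx y hy => lie_mem_of_iSup (fun w w' a ha b hb =>
      le_iSup (fun w : {w : Fin k → ZMod p // Supp p k (m + 1) w} => E w.1) ⟨w.1 + w'.1, w.2.add w'.2⟩
        (hE _ _ a ha b hb)) hx hy
    let T : ι × {w : Fin k → ZMod p // Supp p k (m + 1) w} → AddSubgroup M :=
      fun a => P a.1 ⊓ E a.2.1
    have hspanT : ∀ j, ser S j ≤ ⨆ a, T a ⊓ ser S j := by
      intro j
      induction j with
      | zero =>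
        refine iSup_le fun w => (hspan w.1).trans (iSup_le fun i => ?_)
        exact le_iSup_of_le (i, w) (le_inf le_rfl (inf_le_right.trans
          (le_iSup (fun w : {w : Fin k → ZMod p // Supp p k (m + 1) w} => E w.1) w)))
      | succ j ihj =>
        refine Br_le fun x hx y hy => lie_mem_of_iSup (fun a b u hu v hv => ?_) (ihj hx) (ihj hy)
        obtain ⟨l, hl⟩ := hclose a.1 b.1 a.2.1 b.2.1
        exact le_iSup (fun g => T g ⊓ ser S (j + 1)) (l, ⟨a.2.1 + b.2.1, a.2.2.add b.2.2⟩)
          ⟨⟨hl u hu.1 v hv.1, hE _ _ u hu.1.2 v hv.1.2⟩, lie_mem_Br hu.2 hv.2⟩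
    have hcard : Fintype.card (ι × {w : Fin k → ZMod p // Supp p k (m + 1) w}) ≤ R * p ^ k := by
      rw [Fintype.card_prod]
      refine Nat.mul_le_mul hR ((Fintype.card_subtype_le _).trans_eq ?_)
      simp [ZMod.card]
    set q₀ := R * p ^ k * c + 1 with hq₀
    have hdown : ∀ i ≤ f, (Br (ser S (f - i)))^[q₀ ^ i] ⊤ = ⊥ := by
      intro i
      induction i with
      | zero =>
        intro _
        have h0 : ser S f = ⊥ :=
          le_bot_iff.mp ((ser_le_total htot f).trans (iSup_le fun j => (hD j).le))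
        rw [Nat.sub_zero, pow_zero, Function.iterate_one, h0, eq_bot_iff]
        refine Br_le fun x _ y hy => ?_
        rw [AddSubgroup.mem_bot] at hy ⊢
        rw [hy, lie_zero]
      | succ i ihi =>
        intro hi
        have hJ := ihi (by omega)
        obtain ⟨j, hj⟩ : ∃ j, f - i = j + 1 := ⟨f - i - 1, by omega⟩
        rw [show f - (i + 1) = j by omega]
        rw [hj] at hJ
        have h := act_nil (fun a => T a ⊓ ser S j) (ser S (j + 1)) hcard
          (fun a b x hx y hy => AddSubgroup.mem_sup_right (lie_mem_Br hx.2 hy.2))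
          (fun b x hx y hy => lie_mem_Br (ser_succ_le hSS j hx) hy.2) hJ
          (fun a => le_bot_iff.mp ((Br_iterate_mono
            (inf_le_left.trans (inf_le_left.trans (hPU a.1))) _ le_top).trans (hU a.1).le))
        rw [pow_succ]
        exact le_bot_iff.mp ((Br_iterate_mono (hspanT j) _ le_top).trans h.le)
    have h := hdown f le_rfl
    rw [Nat.sub_self] at h
    exact h

end Main

end CfsgLib.PGroup.FixedTerms
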