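import Cfsg.Agent.Lib.PGroup.FixedTerms.Special
import Cfsg.Agent.Lib.Components.SFT.Complete
import Mathlib.GroupTheory.SemidirectProduct
import Mathlib.LinearAlgebra.Dimension.Finrank
import Mathlib.LinearAlgebra.FiniteDimensional.Basic

/-!
Fixed-point terms of bounded class bound the class of the same term of the whole group.
-/

set_option autoImplicit false

open scoped commutatorElement

namespace CfsgLib.PGroup.FixedTerms

variable {p k : ℕ}

/-- An elementary abelian group of order `p ^ k` is a coordinate space. -/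
theorem exists_coords [Fact p.Prime] {A : Type*} [Group A] [Finite A] (hc : ∀ a b : A, a * b = b * a)
    (he : ∀ a : A, a ^ p = 1) (hk : Nat.card A = p ^ k) :
    Nonempty (Multiplicative (Fin k → ZMod p) ≃* A) := by
  letI : CommGroup A := { (inferInstance : Group A) with mul_comm := hc }
  haveI : Module (ZMod p) (Additive A) := AddCommGroup.zmodModule (n := p) (fun a => by
    apply Additive.toMul.injective
    rw [toMul_nsmul, toMul_zero]
    exact he _)
  haveI : Module.Finite (ZMod p) (Additive A) := Module.Finite.of_finite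
  have hd : Module.finrank (ZMod p) (Additive A) = k := by
    have h := Module.natCard_eq_pow_finrank (K := ZMod p) (V := Additive A)
    have h2 : Nat.card (Additive A) = p ^ k := (Nat.card_congr Additive.toMul).trans hk
    rw [h2, Nat.card_zmod] at h
    exact (Nat.pow_right_injective (Fact.out : p.Prime).two_le h).symm
  let e := (Module.finBasisOfFinrankEq (ZMod p) (Additive A) hd).equivFun.symm
  exact ⟨AddEquiv.toMultiplicativeLeft e.toAddEquiv⟩

/-- The fixed points of an automorphism. -/
abbrev fixedBy {G : Type*} [Group G] (a : MulAut G) : Subgroup G :=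
  a.toMonoidHom.eqLocus (MonoidHom.id G)

theorem bound (full : Bool) (i c : ℕ) (hp : p.Prime) (hlen : ll i full + 2 ≤ k) :
    ∃ B : ℕ, ∀ (G : Type) [Group G] [Finite G], (Nat.card G).Coprime p →
      ∀ A : Subgroup (MulAut G), Cfsg.IsElementaryAbelian p A → Nat.card ↥A = p ^ k →
        (∀ a ∈ A, a ≠ 1 →
          (term full (⊤ : Subgroup ↥(fixedBy (a : MulAut G))) i).lowerCentralSeries c = ⊥) →
        (term full (⊤ : Subgroup G) i).lowerCentralSeries B = ⊥ := by
  haveI : Fact p.Prime := ⟨hp⟩
  refine ⟨bnd p k (rr p k i full) c k, fun G _ _ hcop A hA hk hC => ?_⟩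
  haveI : Finite (MulAut G) := Finite.of_injective (fun f : MulAut G => (f : G → G))
    (fun f g h => MulEquiv.ext (congrFun h))
  haveI : Finite ↥A := inferInstance
  obtain ⟨e⟩ := exists_coords (A := ↥A) (p := p) (k := k) (fun a b => hA.1.is_comm.comm a b)
    (fun a => Subtype.ext (by rw [SubmonoidClass.coe_pow]; exact hA.2 a a.2)) hk
  let X := SemidirectProduct G ↥A A.subtype
  haveI : Finite X := Finite.of_equiv (G × ↥A) SemidirectProduct.equivProd.symm
  let i₁ : G →* X := SemidirectProduct.inl
  let i₂ : ↥A →* X := SemidirectProduct.inr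
  have hi₁ : Function.Injective i₁ := SemidirectProduct.inl_injective
  have hi₂ : Function.Injective i₂ := SemidirectProduct.inr_injective
  let ρ : Multiplicative (Fin k → ZMod p) →* X := i₂.comp e.toMonoidHom
  set G₀ : Subgroup X := i₁.range with hG₀
  have hG₀n : G₀.Normal := by
    rw [hG₀, SemidirectProduct.range_inl_eq_ker_rightHom]
    infer_instance
  haveI := hG₀n
  have hinv : Inv ρ G₀ := fun a => by rw [Subgroup.normalizer_eq_top]; exact Subgroup.mem_top _
  have hcard : Nat.card ↥G₀ = Nat.card G := (Nat.card_congr (MonoidHom.ofInjective hi₁).toEquiv).symm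
  have hfix : ∀ a : Fin k → ZMod p,
      G₀ ⊓ cent ρ {a} = (fixedBy (e (Multiplicative.ofAdd a) : MulAut G)).map i₁ := by
    intro a
    have key : ∀ g : G, ρ (Multiplicative.ofAdd a) * i₁ g =
        i₁ ((e (Multiplicative.ofAdd a) : MulAut G) g) * ρ (Multiplicative.ofAdd a) := by
      intro g
      have h := SemidirectProduct.inl_aut (φ := A.subtype) (e (Multiplicative.ofAdd a)) g
      show i₂ _ * i₁ g = i₁ _ * i₂ _
      rw [show i₁ ((e (Multiplicative.ofAdd a) : MulAut G) g) = _ from h, map_inv]
      exact (inv_mul_cancel_right _ _).symm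
    ext x
    constructor
    · rintro ⟨⟨g, rfl⟩, hx⟩
      refine ⟨g, ?_, rfl⟩
      have h := mem_cent.mp hx a rfl
      rw [key g] at h
      exact hi₁ (mul_right_cancel h)
    · rintro ⟨g, hg, rfl⟩
      refine ⟨⟨g, rfl⟩, mem_cent.mpr fun b hb => ?_⟩
      rw [Set.mem_singleton_iff.mp hb, key g]
      rw [show (e (Multiplicative.ofAdd a) : MulAut G) g = g from hg]
  have hne : ∀ a : Fin k → ZMod p, a ≠ 0 → (e (Multiplicative.ofAdd a) : MulAut G) ≠ 1 := by
    intro a ha h
    refine ha (Multiplicative.ofAdd.injective ?_)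
    apply e.injective
    rw [ofAdd_zero, map_one]
    exact Subtype.ext h
  have hC' : ∀ a : Fin k → ZMod p, a ≠ 0 →
      (term full (G₀ ⊓ cent ρ {a}) i).lowerCentralSeries c = ⊥ := by
    intro a ha
    have h := hC _ (e (Multiplicative.ofAdd a)).2 (hne a ha)
    set F := fixedBy (e (Multiplicative.ofAdd a) : MulAut G) with hF
    rw [hfix a, show F.map i₁ = (⊤ : Subgroup ↥F).map (i₁.comp F.subtype) by
      rw [← Subgroup.map_map, ← MonoidHom.range_eq_map, Subgroup.range_subtype],
      ← map_term, ← map_lcs, h, Subgroup.map_bot]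
  have hsolvC : ∀ a : Fin k → ZMod p, a ≠ 0 → Group.IsSolvable ↥(G₀ ⊓ cent ρ {a}) := by
    intro a ha
    rw [hfix a]
    haveI := isSolvable_of_term (X := ↥(fixedBy (e (Multiplicative.ofAdd a) : MulAut G))) full
      (hC _ (e (Multiplicative.ofAdd a)).2 (hne a ha))
    exact Group.isSolvable_of_surjective
      (f := ((fixedBy (e (Multiplicative.ofAdd a) : MulAut G)).equivMapOfInjective i₁ hi₁).toMonoidHom)
      (MulEquiv.surjective _)
  have hA' : Cfsg.IsElementaryAbelian p ρ.range := by
    refine ⟨⟨⟨?_⟩⟩, ?_⟩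
    · rintro ⟨_, a, rfl⟩ ⟨_, b, rfl⟩
      exact Subtype.ext (by
        show ρ a * ρ b = ρ b * ρ a
        rw [← map_mul, mul_comm, map_mul])
    · rintro _ ⟨a, rfl⟩
      rw [← map_pow, show a ^ p = 1 from Multiplicative.toAdd.injective (by
        rw [toAdd_pow, toAdd_one]
        funext j
        simp)]
      exact map_one ρ
  have hρinj : Function.Injective ρ := hi₂.comp e.injective
  have hA3 : p ^ 3 ≤ Nat.card ↥ρ.range := by
    rw [← Nat.card_congr (MonoidHom.ofInjective hρinj).toEquiv, Nat.card_congr e.toEquiv, hk]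
    refine Nat.pow_le_pow_right hp.pos ?_
    have : 1 ≤ ll i full := by cases full <;> simp [ll_true, ll_false, Nat.one_le_two_pow]
    omega
  have hsolv : Group.IsSolvable ↥G₀ := by
    refine CfsgLib.Components.SFT.isSolvable_of_centralizers (p := p) hA' hA3
      (by rw [hcard]; exact hp.coprime_iff_not_dvd.mp hcop.symm)
      (by rw [Subgroup.normalizer_eq_top]; exact le_top) ?_
    rintro _ ⟨a, rfl⟩ ha
    have hle : Subgroup.centralizer ({ρ a} : Set X) = cent ρ {Multiplicative.toAdd a} := by
      rw [cent, Set.image_singleton, ofAdd_toAdd]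
    rw [hle]
    refine hsolvC _ fun h0 => ha ?_
    rw [show a = 1 from Multiplicative.toAdd.injective (by rw [h0]; rfl), map_one]
  have h := main ρ G₀ full i c hinv (by rw [hcard]; exact hcop) hsolv hlen hC'
  rw [hG₀, MonoidHom.range_eq_map, ← map_term, ← map_lcs] at h
  exact (Subgroup.map_eq_bot_iff_of_injective _ hi₁).mp h

end CfsgLib.PGroup.FixedTerms
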