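import Cfsg.Agent.Lib.Solvable.Cores
import Cfsg.Agent.Lib.LocalEvenB.InvariantNilpotent

/-!
A solvable group generated by elements whose parts of order prime to `r` centralise every
characteristic `r`-section is nilpotent.
-/

set_option autoImplicit false

open scoped commutatorElement

namespace CfsgLib.PGroup.FixedTerms

theorem commute_of_coprime' {L : Type*} [Group L] [Finite L] (h : Group.IsNilpotent L) {a b : L}
    (hab : (orderOf a).Coprime (orderOf b)) : a * b = b * a := by
  haveI := h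
  exact CfsgLib.LocalEvenB.InvariantNilpotent.commute_of_coprime hab

/-- The decomposition into the `r`-part and the part of order prime to `r`. -/
theorem exists_parts {G : Type*} [Group G] [Finite G] {r : ℕ} (hr : r.Prime) (x : G) :
    ∃ i j : ℤ, x = x ^ i * x ^ j ∧ (∃ t : ℕ, (x ^ i) ^ r ^ t = 1) ∧ (orderOf (x ^ j)).Coprime r := by
  obtain ⟨t, m, hm, he⟩ := Nat.exists_eq_pow_mul_and_not_dvd (orderOf_pos x).ne' r hr.ne_one
  obtain ⟨a, b, hab⟩ : IsCoprime ((r ^ t : ℕ) : ℤ) (m : ℤ) :=
    Nat.Coprime.isCoprime (Nat.Coprime.pow_left t (hr.coprime_iff_not_dvd.mpr hm))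
  refine ⟨b * m, a * (r ^ t : ℕ), ?_, ⟨t, ?_⟩, ?_⟩
  · rw [← zpow_add, show b * (m : ℤ) + a * (r ^ t : ℕ) = 1 by rw [add_comm]; exact hab, zpow_one]
  · rw [← zpow_natCast, ← zpow_mul,
      show b * (m : ℤ) * (r ^ t : ℕ) = (orderOf x : ℤ) * b by rw [he]; push_cast; ring, zpow_mul,
      zpow_natCast, pow_orderOf_eq_one, one_zpow]
  · refine Nat.Coprime.coprime_dvd_left (orderOf_dvd_of_pow_eq_one ?_)
      (Nat.coprime_comm.mp (hr.coprime_iff_not_dvd.mpr hm))
    rw [← zpow_natCast, ← zpow_mul,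
      show a * ((r ^ t : ℕ) : ℤ) * (m : ℕ) = (orderOf x : ℤ) * a by rw [he]; push_cast; ring,
      zpow_mul, zpow_natCast, pow_orderOf_eq_one, one_zpow]

/-- A finite nilpotent group generated by `r`-elements is an `r`-group. -/
theorem exists_pow_eq_one_of_gen {Q : Type*} [Group Q] [Finite Q] (hQ : Group.IsNilpotent Q) {r : ℕ}
    [Fact r.Prime] {S : Set Q} (hS : Subgroup.closure S = ⊤) (h : ∀ s ∈ S, ∃ t : ℕ, s ^ r ^ t = 1)
    (x : Q) : ∃ t : ℕ, x ^ r ^ t = 1 := by
  let P : Sylow r Q := Classical.arbitrary _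
  haveI : (P : Subgroup Q).Normal :=
    ((Group.isNilpotent_of_finite_tfae (G := Q)).out 0 3 rfl rfl).mp hQ r ‹_› P
  have hle : Subgroup.closure S ≤ (P : Subgroup Q) := by
    rw [Subgroup.closure_le]
    intro s hs
    obtain ⟨t, ht⟩ := h s hs
    have hp : IsPGroup r (Subgroup.zpowers s) := by
      obtain ⟨u, -, hu⟩ := (Nat.dvd_prime_pow (Fact.out : r.Prime)).mp (orderOf_dvd_of_pow_eq_one ht)
      exact IsPGroup.of_card (by rw [Nat.card_zpowers, hu])
    obtain ⟨P', hP'⟩ := hp.exists_le_sylow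
    haveI := Sylow.unique_of_normal P ‹_›
    exact Subsingleton.elim P' P ▸ hP' (Subgroup.mem_zpowers s)
  have hx : x ∈ (P : Subgroup Q) := hle (by rw [hS]; exact Subgroup.mem_top x)
  obtain ⟨t, ht⟩ := P.2 ⟨x, hx⟩
  exact ⟨t, congrArg Subtype.val ht⟩

/-- An extension of a nilpotent group by a normal `r`-subgroup. -/
theorem nil_ext {Q : Type*} [Group Q] [Finite Q] {R : Subgroup Q} [R.Normal] {r : ℕ} [hr : Fact r.Prime]
    (hR : IsPGroup r R) (hQR : Group.IsNilpotent (Q ⧸ R)) {S : Set Q} (hS : Subgroup.closure S = ⊤)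
    (hcen : ∀ s ∈ S, ∀ j : ℤ, (orderOf (s ^ j)).Coprime r → ∀ m ∈ R, s ^ j * m = m * s ^ j) :
    Group.IsNilpotent Q := by
  set C := Subgroup.centralizer (R : Set Q) with hC
  haveI : C.Normal := by
    constructor
    intro c hc g
    rw [Subgroup.mem_centralizer_iff] at hc ⊢
    intro m hm
    have h := hc (g⁻¹ * m * g) (by simpa using ‹R.Normal›.conj_mem m hm g⁻¹)
    calc m * (g * c * g⁻¹) = g * ((g⁻¹ * m * g) * c) * g⁻¹ := by group
      _ = g * (c * (g⁻¹ * m * g)) * g⁻¹ := by rw [h]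
      _ = g * c * g⁻¹ * m := by group
  -- the quotient by the centraliser is an `r`-group
  have hT : ∀ x : Q, ∃ t : ℕ, x ^ r ^ t ∈ R ⊔ C := by
    intro x
    let f := QuotientGroup.mk' (R ⊔ C)
    let g : Q ⧸ R →* Q ⧸ (R ⊔ C) := QuotientGroup.lift R f (fun y hy => by
      rw [MonoidHom.mem_ker, QuotientGroup.mk'_apply, QuotientGroup.eq_one_iff]
      exact Subgroup.mem_sup_left hy)
    have hg : Function.Surjective g := fun y => by
      obtain ⟨y, rfl⟩ := QuotientGroup.mk'_surjective _ y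
      exact ⟨QuotientGroup.mk y, rfl⟩
    haveI := hQR
    have hnil : Group.IsNilpotent (Q ⧸ (R ⊔ C)) := Group.nilpotent_of_surjective g hg
    obtain ⟨t, ht⟩ := exists_pow_eq_one_of_gen hnil (r := r) (S := f '' S)
      (by rw [← MonoidHom.map_closure, hS, Subgroup.map_top_of_surjective f (QuotientGroup.mk'_surjective _)])
      (by
        rintro _ ⟨s, hs, rfl⟩
        obtain ⟨i, j, e, ⟨t, ht⟩, hj⟩ := exists_parts hr.out s
        refine ⟨t, ?_⟩
        have h1 : f (s ^ j) = 1 := by
          rw [QuotientGroup.mk'_apply, QuotientGroup.eq_one_iff]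
          exact Subgroup.mem_sup_right (Subgroup.mem_centralizer_iff.mpr
            fun m hm => (hcen s hs j hj m hm).symm)
        rw [e, map_mul, h1, mul_one, ← map_pow, ht, map_one])
      (f x)
    exact ⟨t, by rwa [← map_pow, QuotientGroup.mk'_apply, QuotientGroup.eq_one_iff] at ht⟩
  have hQC : ∀ x : Q, ∃ t : ℕ, x ^ r ^ t ∈ C := by
    intro x
    obtain ⟨t, ht⟩ := hT x
    obtain ⟨a, ha, c, hc, e⟩ := Subgroup.mem_sup_of_normal_right.mp ht
    obtain ⟨u, hu⟩ := hR ⟨a, ha⟩
    have hu' : a ^ r ^ u = 1 := congrArg Subtype.val hu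
    refine ⟨t + u, ?_⟩
    rw [pow_add, pow_mul, ← e]
    rw [Commute.mul_pow (Subgroup.mem_centralizer_iff.mp hc a ha : a * c = c * a), hu', one_mul]
    exact pow_mem hc _
  refine ((Group.isNilpotent_of_finite_tfae (G := Q)).out 0 3 rfl rfl).mpr fun q hq P => ?_
  haveI := hq
  let π := QuotientGroup.mk' R
  haveI : ((P : Subgroup Q).map π).Normal := by
    have h := ((Group.isNilpotent_of_finite_tfae (G := Q ⧸ R)).out 0 3 rfl rfl).mp hQR q hq
      (P.mapSurjective (QuotientGroup.mk'_surjective R))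
    rwa [Sylow.coe_mapSurjective] at h
  have hnorm : ((P : Subgroup Q) ⊔ R).Normal := by
    have h : (((P : Subgroup Q).map π).comap π).Normal := inferInstance
    rwa [Subgroup.comap_map_eq, QuotientGroup.ker_mk'] at h
  by_cases hqr : q = r
  · subst hqr
    have hle : R ≤ (P : Subgroup Q) := by
      rw [← P.is_maximal' (P.2.to_sup_of_normal_right hR) le_sup_left]
      exact le_sup_right
    rwa [sup_of_le_left hle] at hnorm
  · constructor
    intro y hy g
    obtain ⟨a, ha, b, hb, e⟩ :=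
      Subgroup.mem_sup_of_normal_right.mp (hnorm.conj_mem y (Subgroup.mem_sup_left hy) g)
    obtain ⟨i, hi⟩ := P.2 ⟨y, hy⟩
    obtain ⟨j, hj⟩ := P.2 ⟨a, ha⟩
    have hi' : y ^ q ^ i = 1 := congrArg Subtype.val hi
    have hj' : a ^ q ^ j = 1 := congrArg Subtype.val hj
    have haC : a ∈ C := by
      obtain ⟨t, ht⟩ := hQC a
      obtain ⟨u, v, huv⟩ : IsCoprime ((r ^ t : ℕ) : ℤ) ((q ^ j : ℕ) : ℤ) :=
        Nat.Coprime.isCoprime (Nat.Coprime.pow _ _ ((Nat.coprime_primes hr.out hq.out).mpr (Ne.symm hqr)))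
      have : a = (a ^ r ^ t) ^ u := by
        rw [← zpow_natCast, ← zpow_mul]
        conv_lhs => rw [← zpow_one a, ← huv, zpow_add, mul_comm v, zpow_mul a ((q ^ j : ℕ) : ℤ), zpow_natCast, hj',
          one_zpow, mul_one, mul_comm u]
      rw [this]
      exact C.zpow_mem ht u
    have hcomm : Commute a b := (Subgroup.mem_centralizer_iff.mp haC b hb).symm
    obtain ⟨w, hw⟩ := hR ⟨b, hb⟩
    have hw' : b ^ r ^ w = 1 := congrArg Subtype.val hw
    have hb1 : b ^ q ^ (i + j) = 1 := by
      have h1 : (a * b) ^ q ^ (i + j) = 1 := by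
        rw [e, conj_pow, pow_add, pow_mul, hi', one_pow, mul_one, mul_inv_cancel]
      rw [hcomm.mul_pow, show q ^ (i + j) = q ^ j * q ^ i by rw [← pow_add, add_comm], pow_mul a,
        hj', one_pow, one_mul, ← pow_add] at h1
      rwa [add_comm] at h1
    have hb0 : b = 1 := by
      have h := Nat.dvd_gcd (orderOf_dvd_of_pow_eq_one hb1) (orderOf_dvd_of_pow_eq_one hw')
      rw [(Nat.Coprime.pow _ _ ((Nat.coprime_primes hq.out hr.out).mpr hqr)).gcd_eq_one,
        Nat.dvd_one, orderOf_eq_one_iff] at h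
      exact h
    rw [← e, hb0, mul_one]
    exact ha

/-- The criterion. -/
theorem nilpotent_of_sections {N : Type*} [Group N] [Finite N] [Group.IsSolvable N] {S : Set N}
    (hS : Subgroup.closure S = ⊤)
    (hcent : ∀ M M' : Subgroup N, M.Characteristic → M'.Characteristic → M ≤ M' → ∀ r : ℕ, r.Prime →
      (∀ m ∈ M', ∃ t : ℕ, m ^ r ^ t ∈ M) → ∀ s ∈ S, ∀ j : ℤ, (orderOf (s ^ j)).Coprime r →
        ∀ m ∈ M', ⁅s ^ j, m⁆ ∈ M) :
    Group.IsNilpotent N := by
  suffices h : ∀ n : ℕ, ∀ M : Subgroup N, ∀ _ : M.Characteristic, M.index = n →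
      Group.IsNilpotent (N ⧸ M) by
    haveI := h _ (⊥ : Subgroup N) inferInstance rfl
    exact Group.nilpotent_of_mulEquiv (QuotientGroup.quotientBot (G := N))
  intro n
  induction n using Nat.strong_induction_on with
  | _ n ih =>
    intro M hM hn
    haveI := hM
    let f := QuotientGroup.mk' M
    have hf : Function.Surjective f := QuotientGroup.mk'_surjective M
    rcases subsingleton_or_nontrivial (N ⧸ M) with h | h
    · exact Group.isNilpotent_of_subsingleton
    haveI : Group.IsSolvable (N ⧸ M) := Group.isSolvable_of_surjective (f := f) hf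
    obtain ⟨r, hr, hne⟩ : ∃ r : ℕ, r.Prime ∧ Cfsg.pCore r (N ⧸ M) ≠ ⊥ := by
      by_contra hcon
      push Not at hcon
      refine Solvable.Cores.fittingSubgroup_ne_bot (G := N ⧸ M) ?_
      rw [Solvable.Cores.fittingSubgroup_eq_iSup_pCore]
      exact le_bot_iff.mp (iSup_le fun q => (hcon q q.2).le)
    haveI : Fact r.Prime := ⟨hr⟩
    set R := Cfsg.pCore r (N ⧸ M) with hR
    set M' := R.comap f with hM'
    have hMM' : M ≤ M' := fun x hx => by
      show f x ∈ R
      rw [QuotientGroup.mk'_apply, (QuotientGroup.eq_one_iff x).mpr hx]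
      exact R.one_mem
    haveI hM'c : M'.Characteristic := by
      haveI : R.Characteristic := Solvable.Cores.pCore_characteristic r
      rw [Subgroup.characteristic_iff_le_comap]
      intro φ x hx
      let ψ : N ⧸ M ≃* N ⧸ M := QuotientGroup.congr M M φ (Subgroup.characteristic_iff_map_eq.mp hM φ)
      show f (φ x) ∈ R
      have h1 : ψ (f x) ∈ R := by
        have := Subgroup.characteristic_iff_comap_eq.mp ‹R.Characteristic› ψ
        exact (SetLike.ext_iff.mp this (f x)).mpr hx
      exact h1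
    have hlt : M'.index < n := by
      subst hn
      have h1 := R.card_mul_index
      have h2 : M'.index = R.index := Subgroup.index_comap_of_surjective R hf
      have h3 : 1 < Nat.card R := R.one_lt_card_iff_ne_bot.mpr hne
      have h4 : 0 < R.index := Nat.pos_of_ne_zero Subgroup.index_ne_zero_of_finite
      rw [h2, Subgroup.index_eq_card M, ← h1]
      exact lt_mul_left h4 h3
    haveI := ih _ hlt M' hM'c rfl
    let g : N ⧸ M' →* (N ⧸ M) ⧸ R := QuotientGroup.lift M' ((QuotientGroup.mk' R).comp f)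
      (fun y hy => by
        rw [MonoidHom.mem_ker, MonoidHom.comp_apply, QuotientGroup.mk'_apply, QuotientGroup.eq_one_iff]
        exact hy)
    have hg : Function.Surjective g := fun y => by
      obtain ⟨y, rfl⟩ := QuotientGroup.mk'_surjective _ y
      obtain ⟨y, rfl⟩ := hf y
      exact ⟨QuotientGroup.mk y, rfl⟩
    refine nil_ext (R := R) (r := r) (Solvable.Cores.isPGroup_pCore r)
      (Group.nilpotent_of_surjective g hg) (S := f '' S)
      (by rw [← MonoidHom.map_closure, hS, Subgroup.map_top_of_surjective f hf]) ?_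
    rintro _ ⟨s, hs, rfl⟩ j hj m hm
    obtain ⟨m, rfl⟩ := hf m
    obtain ⟨a, b, e, ⟨t, ht⟩, hb⟩ := exists_parts hr (s ^ j)
    have h1 : f ((s ^ j) ^ a) = 1 := by
      refine orderOf_eq_one_iff.mp (Nat.dvd_one.mp ?_)
      have hco : (orderOf (f ((s ^ j) ^ a))).Coprime r := by
        have key : ∀ (x : N ⧸ M) (a : ℤ), orderOf (x ^ a) ∣ orderOf x := fun x a => by
          refine orderOf_dvd_of_pow_eq_one ?_
          rw [← zpow_natCast, ← zpow_mul, mul_comm, zpow_mul, zpow_natCast, pow_orderOf_eq_one,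
            one_zpow]
        rw [map_zpow, map_zpow]
        exact hj.coprime_dvd_left (key _ a)
      rw [← (hco.pow_right t).gcd_eq_one]
      exact Nat.dvd_gcd dvd_rfl (orderOf_dvd_of_pow_eq_one (by rw [← map_pow, ht, map_one]))
    have hsj : (f s) ^ j = f ((s ^ j) ^ b) := by
      rw [← map_zpow]
      conv_lhs => rw [e, map_mul, h1, one_mul]
    have hm' : m ∈ M' := hm
    have hres := hcent M M' hM hM'c hMM' r hr (fun x hx => by
      obtain ⟨u, hu⟩ := Solvable.Cores.isPGroup_pCore r ⟨f x, hx⟩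
      refine ⟨u, ?_⟩
      rw [← QuotientGroup.eq_one_iff, ← QuotientGroup.mk'_apply, map_pow]
      exact congrArg Subtype.val hu) s hs (j * b) (by rwa [zpow_mul]) m hm'
    rw [zpow_mul] at hres
    rw [hsj, ← commutatorElement_eq_one_iff_mul_comm, ← map_commutatorElement,
      QuotientGroup.mk'_apply, QuotientGroup.eq_one_iff]
    exact hres

end CfsgLib.PGroup.FixedTerms
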