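import Cfsg.Agent.Lib.PGroup.FixedTerms.Transfer
import Cfsg.Agent.Lib.PGroup.FixedTerms.Nilpotent
import Cfsg.Agent.Lib.Coprime.Generation

/-!
The special subgroups: subgroups of fixed points of hyperplanes which generate a given term of
the derived series, or of the lower central series, and lie in the corresponding terms of the
fixed-point groups of many elements.
-/

set_option autoImplicit false

open scoped commutatorElement

namespace CfsgLib.PGroup.FixedTerms

variable {p k : ℕ} {X : Type*} [Group X]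

/-- A term of the derived series (`full`) or of the lower central series. -/
def term (full : Bool) (H : Subgroup X) : ℕ → Subgroup X
  | 0 => H
  | i + 1 => ⁅term full H i, if full then term full H i else H⁆

theorem term_le (full : Bool) (H : Subgroup X) : ∀ i, term full H i ≤ H
  | 0 => le_rfl
  | i + 1 => by
    show ⁅term full H i, if full then term full H i else H⁆ ≤ H
    rw [Subgroup.commutator_le]
    intro a ha b hb
    have hb' : b ∈ H := by
      cases full
      · exact hb
      · exact term_le true H i hb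
    rw [commutatorElement_def]
    exact H.mul_mem (H.mul_mem (H.mul_mem (term_le full H i ha) hb') (H.inv_mem (term_le full H i ha)))
      (H.inv_mem hb')

theorem term_mono (full : Bool) {H K : Subgroup X} (h : H ≤ K) :
    ∀ i, term full H i ≤ term full K i
  | 0 => h
  | i + 1 => Subgroup.commutator_mono (term_mono full h i) (by
      cases full
      · exact h
      · exact term_mono true h i)

theorem map_term {Y : Type*} [Group Y] (f : X →* Y) (full : Bool) (H : Subgroup X) :
    ∀ i, (term full H i).map f = term full (H.map f) i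
  | 0 => rfl
  | i + 1 => by
    show Subgroup.map f ⁅term full H i, if full then term full H i else H⁆ =
      ⁅term full (H.map f) i, if full then term full (H.map f) i else H.map f⁆
    rw [Subgroup.map_commutator, map_term f full H i]
    cases full
    · rfl
    · simp only [if_true, map_term f true H i]

theorem term_false_eq (H : Subgroup X) : ∀ i, term false H i = H.lowerCentralSeries i
  | 0 => rfl
  | i + 1 => by
    show ⁅term false H i, H⁆ = ⁅H.lowerCentralSeries i, H⁆
    rw [term_false_eq H i]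

theorem term_true_eq : ∀ i, term true (⊤ : Subgroup X) i = derivedSeries X i
  | 0 => rfl
  | i + 1 => by
    show ⁅term true (⊤ : Subgroup X) i, term true (⊤ : Subgroup X) i⁆ = _
    rw [term_true_eq i, derivedSeries_succ]

theorem derived_le_term (full : Bool) : ∀ i, derivedSeries X i ≤ term full (⊤ : Subgroup X) i
  | 0 => le_rfl
  | i + 1 => by
    rw [derivedSeries_succ]
    refine Subgroup.commutator_mono (derived_le_term full i) ?_
    cases full
    · exact le_top
    · exact derived_le_term true i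

theorem lcs_mono {H K : Subgroup X} (h : H ≤ K) :
    ∀ n, H.lowerCentralSeries n ≤ K.lowerCentralSeries n
  | 0 => h
  | n + 1 => Subgroup.commutator_mono (lcs_mono h n) h

theorem isSolvable_of_term (full : Bool) {i c : ℕ}
    (h : (term full (⊤ : Subgroup X) i).lowerCentralSeries c = ⊥) : Group.IsSolvable X := by
  have key : ∀ m, derivedSeries X (i + m) ≤ (term full (⊤ : Subgroup X) i).lowerCentralSeries m := by
    intro m
    induction m with
    | zero => exact derived_le_term full i
    | succ m ih =>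
      rw [← add_assoc, derivedSeries_succ]
      exact Subgroup.commutator_mono ih ((derivedSeries_antitone X (Nat.le_add_right i m)).trans
        (derived_le_term full i))
  exact (Group.isSolvable_def X).mpr ⟨i + c, le_bot_iff.mp ((key c).trans h.le)⟩

theorem isNilpotent_of_lcs {H : Subgroup X} {c : ℕ} (h : H.lowerCentralSeries c = ⊥) :
    Group.IsNilpotent ↥H := by
  refine (Subgroup.nilpotent_iff_lowerCentralSeries (G := ↥H)).mpr ⟨c, ?_⟩
  apply Subgroup.map_injective H.subtype_injective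
  rw [map_lcs, ← MonoidHom.range_eq_map, Subgroup.range_subtype, Subgroup.map_bot, h]

variable [Finite X] (ρ : Multiplicative (Fin k → ZMod p) →* X)

/-- Invariance under the acting group. -/
abbrev Inv (H : Subgroup X) : Prop :=
  ∀ a, ρ a ∈ Subgroup.normalizer (H : Set X)

theorem term_normalizer {H : Subgroup X} {x : X} (hx : x ∈ Subgroup.normalizer (H : Set X))
    (full : Bool) : ∀ i, x ∈ Subgroup.normalizer (term full H i : Set X)
  | 0 => hx
  | i + 1 => normalizer_commutator (term_normalizer hx full i) (by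
      cases full
      · exact hx
      · exact term_normalizer hx true i)

theorem normalizer_inf {H K : Subgroup X} {x : X} (hH : x ∈ Subgroup.normalizer (H : Set X))
    (hK : x ∈ Subgroup.normalizer (K : Set X)) :
    x ∈ Subgroup.normalizer ((H ⊓ K : Subgroup X) : Set X) :=
  CfsgLib.Coprime.mem_normalizer_of_conj_map_le fun z hz =>
    ⟨(Subgroup.mem_normalizer_iff.mp hH z).mp hz.1, (Subgroup.mem_normalizer_iff.mp hK z).mp hz.2⟩

theorem inv_inf_cent {H : Subgroup X} (h : Inv ρ H) (s : Set (Fin k → ZMod p)) :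
    Inv ρ (H ⊓ cent ρ s) :=
  fun a => normalizer_inf (h a) (rho_mem_normalizer_cent ρ s a)

variable [Fact p.Prime]

/-- An invariant subgroup is generated by its fixed points of hyperplanes. -/
theorem gen_hyper {H : Subgroup X} (h : Inv ρ H) (hcop : (Nat.card ↥H).Coprime p) :
    H ≤ ⨆ v : Fin k → ZMod p,
      H ⊓ cent ρ ((kerOf v : AddSubgroup (Fin k → ZMod p)) : Set (Fin k → ZMod p)) := by
  haveI : IsMulCommutative ↥ρ.range := ⟨⟨by
    rintro ⟨_, a, rfl⟩ ⟨_, b, rfl⟩
    exact Subtype.ext (by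
      show ρ a * ρ b = ρ b * ρ a
      rw [← map_mul, mul_comm, map_mul])⟩⟩
  have hA : (Nat.card ↥ρ.range).Coprime (Nat.card ↥H) := by
    refine Nat.Coprime.coprime_dvd_left (Subgroup.card_range_dvd ρ) ?_
    simpa [ZMod.card] using hcop.symm.pow_left k
  refine le_trans (CfsgLib.Coprime.iSup_centralizer_of_cyclic_quotient
    (A := ρ.range) (K := H) (by rintro _ ⟨a, rfl⟩; exact h a) hA).ge (iSup₂_le fun B hB => ?_)
  obtain ⟨hBA, a, ⟨a₀, rfl⟩, hBa⟩ := hB
  let B' : AddSubgroup (Fin k → ZMod p) :=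
    { carrier := {b | ρ (Multiplicative.ofAdd b) ∈ B}
      zero_mem' := by simp
      add_mem' := fun {x y} (hx : ρ _ ∈ B) (hy : ρ _ ∈ B) => by
        show ρ (Multiplicative.ofAdd (x + y)) ∈ B
        rw [ofAdd_add, map_mul]; exact B.mul_mem hx hy
      neg_mem' := fun {x} (hx : ρ _ ∈ B) => by
        show ρ (Multiplicative.ofAdd (-x)) ∈ B
        rw [ofAdd_neg, map_inv]; exact B.inv_mem hx }
  have hspan : ∀ b : Fin k → ZMod p, ∃ n : ℤ, b - n • Multiplicative.toAdd a₀ ∈ B' := by
    intro b
    have hnorm : Subgroup.zpowers (ρ a₀) ≤ Subgroup.normalizer (B : Set X) := by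
      rw [Subgroup.zpowers_le]
      refine CfsgLib.Coprime.mem_normalizer_of_conj_map_le fun z hz => ?_
      obtain ⟨z', rfl⟩ := hBA hz
      rwa [← map_inv, ← map_mul, ← map_mul, mul_comm a₀ z', mul_assoc, mul_inv_cancel, mul_one]
    have hb : ρ (Multiplicative.ofAdd b) ∈ B ⊔ Subgroup.zpowers (ρ a₀) := by
      rw [hBa]; exact ⟨_, rfl⟩
    rw [← SetLike.mem_coe, Subgroup.coe_mul_of_right_le_normalizer_left B _ hnorm] at hb
    obtain ⟨β, hβ, z, hz, e⟩ := hb
    obtain ⟨n, rfl⟩ := Subgroup.mem_zpowers_iff.mp hz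
    refine ⟨n, ?_⟩
    show ρ (Multiplicative.ofAdd (b - n • Multiplicative.toAdd a₀)) ∈ B
    rw [ofAdd_sub, ofAdd_zsmul, ofAdd_toAdd, map_div, map_zpow, ← e]
    simpa using hβ
  obtain ⟨v, hv⟩ : ∃ v : Fin k → ZMod p, ∀ x, dot v x = 0 → x ∈ B' := by
    by_cases ha : Multiplicative.toAdd a₀ ∈ B'
    · refine ⟨0, fun x _ => ?_⟩
      obtain ⟨n, hn⟩ := hspan x
      simpa using B'.add_mem hn (B'.zsmul_mem ha n)
    · let B'' : Submodule (ZMod p) (Fin k → ZMod p) :=
        { B' with
          smul_mem' := fun t x hx => by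
            show t • x ∈ B'
            rw [show t = ((t.val : ℕ) : ZMod p) from (ZMod.natCast_zmod_val t).symm,
              Nat.cast_smul_eq_nsmul]
            exact B'.nsmul_mem hx _ }
      obtain ⟨f, hfa, hfB⟩ := Submodule.exists_dual_map_eq_bot_of_notMem
        (show Multiplicative.toAdd a₀ ∉ B'' from ha) inferInstance
      have hzero : ∀ x ∈ B', f x = 0 := fun x hx => by
        have : f x ∈ B''.map f := ⟨x, hx, rfl⟩
        rwa [hfB, Submodule.mem_bot] at this
      refine ⟨fun i => f (Pi.single i 1), fun x hx => ?_⟩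
      have hdot : f x = 0 := by
        rw [← hx, LinearMap.pi_apply_eq_sum_univ f x, dot]
        refine Finset.sum_congr rfl fun i _ => ?_
        rw [smul_eq_mul, mul_comm]
        congr 2
        funext j
        simp [Pi.single_apply, eq_comm]
      obtain ⟨n, hn⟩ := hspan x
      have h1 := hzero _ hn
      rw [map_sub, map_zsmul, hdot, zero_sub, neg_eq_zero, zsmul_eq_mul, mul_eq_zero] at h1
      have h2 : (n : ZMod p) = 0 := h1.resolve_right hfa
      rwa [← Int.cast_smul_eq_zsmul (ZMod p), h2, zero_smul, sub_zero] at hn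
  refine le_iSup_of_le v (inf_le_inf_left _ fun x hx => ?_)
  rw [mem_cent]
  exact fun b hb => Subgroup.mem_centralizer_iff.mp hx _ (hv b hb)

omit [Fact p.Prime] in
/-- A join of subgroups which bracket each other into `S`. -/
theorem commutator_sSup_le {P Q : Set (Subgroup X)} {S : Subgroup X}
    (hP : ∀ F ∈ P, F ≤ Subgroup.normalizer (S : Set X))
    (hQ : ∀ F ∈ Q, F ≤ Subgroup.normalizer (S : Set X))
    (h : ∀ E ∈ P, ∀ F ∈ Q, ⁅E, F⁆ ≤ S) : ⁅sSup P, sSup Q⁆ ≤ S := by
  have hQN : sSup Q ≤ Subgroup.normalizer (S : Set X) := sSup_le hQ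
  have hPN : sSup P ≤ Subgroup.normalizer (S : Set X) := sSup_le hP
  rw [Subgroup.commutator_le]
  intro x hx y hy
  have key : ∀ E ∈ P, ∀ a ∈ E, ∀ y ∈ sSup Q, ⁅a, y⁆ ∈ S := by
    intro E hE a ha y hy
    rw [sSup_eq_iSup'] at hy
    suffices hh : y ∈ Subgroup.normalizer (S : Set X) ∧ ⁅a, y⁆ ∈ S from hh.2
    refine Subgroup.iSup_induction (fun F : Q => (F : Subgroup X))
      (C := fun y => y ∈ Subgroup.normalizer (S : Set X) ∧ ⁅a, y⁆ ∈ S) hy (fun F b hb => ?_)
      ⟨one_mem _, by simp⟩ (fun u v hu hv => ⟨mul_mem hu.1 hv.1, ?_⟩)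
    · exact ⟨hQ F F.2 hb, h E hE F F.2 (Subgroup.commutator_mem_commutator ha hb)⟩
    · rw [show ⁅a, u * v⁆ = ⁅a, u⁆ * (u * ⁅a, v⁆ * u⁻¹) by
        simp only [commutatorElement_def]; group]
      exact S.mul_mem hu.2 ((Subgroup.mem_normalizer_iff.mp hu.1 _).mp hv.2)
  rw [sSup_eq_iSup'] at hx
  suffices hh : x ∈ Subgroup.normalizer (S : Set X) ∧ ⁅x, y⁆ ∈ S from hh.2
  refine Subgroup.iSup_induction (fun E : P => (E : Subgroup X))
    (C := fun x => x ∈ Subgroup.normalizer (S : Set X) ∧ ⁅x, y⁆ ∈ S) hx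
    (fun E a ha => ⟨hPN (le_sSup E.2 ha), key E E.2 a ha y hy⟩) ⟨one_mem _, by simp⟩
    (fun u v hu hv => ⟨mul_mem hu.1 hv.1, ?_⟩)
  rw [show ⁅u * v, y⁆ = u * ⁅v, y⁆ * u⁻¹ * ⁅u, y⁆ by simp only [commutatorElement_def]; group]
  exact S.mul_mem ((Subgroup.mem_normalizer_iff.mp hu.1 _).mp hv.2) hu.2

/-! ### The levels -/

/-- A subgroup together with covectors whose common kernel it belongs to. -/
abbrev Spec (p k : ℕ) (X : Type*) [Group X] : Type _ := Subgroup X × List (Fin k → ZMod p)

/-- The subgroups of a list. -/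
def subs (S : List (Spec p k X)) : Set (Subgroup X) := {H | ∃ e ∈ S, e.1 = H}

/-- One step. -/
noncomputable def step (P Q : List (Spec p k X)) : List (Spec p k X) :=
  (P ×ˢ Q).flatMap fun ef => (Finset.univ : Finset (Fin k → ZMod p)).toList.map fun v =>
    (⁅ef.1.1, ef.2.1⁆ ⊓ cent ρ ((kerOf v : AddSubgroup (Fin k → ZMod p)) : Set (Fin k → ZMod p)),
      ef.1.2 ++ ef.2.2)

theorem mem_step {P Q : List (Spec p k X)} {g : Spec p k X} :
    g ∈ step ρ P Q ↔ ∃ e ∈ P, ∃ f ∈ Q, ∃ v : Fin k → ZMod p, g = (⁅e.1, f.1⁆ ⊓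
      cent ρ ((kerOf v : AddSubgroup (Fin k → ZMod p)) : Set (Fin k → ZMod p)), e.2 ++ f.2) := by
  simp [step, eq_comm, and_assoc]

omit [Fact p.Prime] [Finite X] in
theorem length_step_aux {α β γ : Type*} (P : List α) (Q : List β) (U : List γ) {δ : Type*}
    (f : α × β → γ → δ) :
    ((P ×ˢ Q).flatMap fun ef => U.map (f ef)).length = P.length * Q.length * U.length := by
  rw [List.length_flatMap]
  simp [List.length_product]

theorem length_step (P Q : List (Spec p k X)) :
    (step ρ P Q).length = P.length * Q.length * p ^ k := by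
  rw [step, length_step_aux]
  simp [ZMod.card]

/-- Each member of the first list lies in a member of the second. -/
def Dom (P Q : List (Spec p k X)) : Prop := ∀ e ∈ P, ∃ f ∈ Q, e.1 ≤ f.1

omit [Fact p.Prime] [Finite X] in
theorem Dom.trans {P Q R : List (Spec p k X)} (h : Dom P Q) (h' : Dom Q R) : Dom P R := fun e he => by
  obtain ⟨f, hf, hef⟩ := h e he
  obtain ⟨g, hg, hfg⟩ := h' f hf
  exact ⟨g, hg, hef.trans hfg⟩

theorem Dom.step {P P' Q Q' : List (Spec p k X)} (h : Dom P P') (h' : Dom Q Q') :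
    Dom (step ρ P Q) (step ρ P' Q') := fun g hg => by
  obtain ⟨e, he, f, hf, v, rfl⟩ := (mem_step ρ).mp hg
  obtain ⟨e', he', hee⟩ := h e he
  obtain ⟨f', hf', hff⟩ := h' f hf
  exact ⟨_, (mem_step ρ).mpr ⟨e', he', f', hf', v, rfl⟩,
    inf_le_inf_right _ (Subgroup.commutator_mono hee hff)⟩

variable (G₀ : Subgroup X) (full : Bool)

/-- The specs of degree `0`. -/
noncomputable def lev0 : List (Spec p k X) :=
  (Finset.univ : Finset (Fin k → ZMod p)).toList.map fun v =>
    (G₀ ⊓ cent ρ ((kerOf v : AddSubgroup (Fin k → ZMod p)) : Set (Fin k → ZMod p)), [v])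

/-- The specs of each degree. -/
noncomputable def lev : ℕ → List (Spec p k X)
  | 0 => lev0 ρ G₀
  | i + 1 => step ρ (lev i) (if full then lev i else lev0 ρ G₀)

theorem mem_lev0 {g : Spec p k X} : g ∈ lev0 ρ G₀ ↔ ∃ v : Fin k → ZMod p,
    g = (G₀ ⊓ cent ρ ((kerOf v : AddSubgroup (Fin k → ZMod p)) : Set (Fin k → ZMod p)), [v]) := by
  simp [lev0, eq_comm]

/-- The length bound. -/
def rr (p k : ℕ) : ℕ → Bool → ℕ
  | 0, _ => p ^ k
  | i + 1, full => rr p k i full * (if full then rr p k i full else p ^ k) * p ^ k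

/-- The number of covectors. -/
def ll : ℕ → Bool → ℕ
  | 0, _ => 1
  | i + 1, full => ll i full + (if full then ll i full else 1)

theorem ll_true : ∀ i, ll i true = 2 ^ i
  | 0 => rfl
  | i + 1 => by
    show ll i true + ll i true = _
    rw [ll_true i, pow_succ]; ring

theorem ll_false : ∀ i, ll i false = i + 1
  | 0 => rfl
  | i + 1 => by
    show ll i false + 1 = _
    rw [ll_false i]

theorem length_lev (i : ℕ) : (lev ρ G₀ full i).length = rr p k i full := by
  induction i with
  | zero => simp [lev, lev0, rr, ZMod.card]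
  | succ i ih =>
    rw [show lev ρ G₀ full (i + 1) = step ρ (lev ρ G₀ full i) (if full then lev ρ G₀ full i else lev0 ρ G₀)
      from rfl, length_step, ih]
    cases full
    · simp [rr, lev0, ZMod.card]
    · simp [rr, ih]

theorem lev_props (i : ℕ) : ∀ g ∈ lev ρ G₀ full i, g.2.length ≤ ll i full ∧
    g.1 ≤ term full G₀ i ∧
    (∀ a : Fin k → ZMod p, (∀ v ∈ g.2, dot v a = 0) → g.1 ≤ term full (G₀ ⊓ cent ρ {a}) i) ∧
    (Inv ρ G₀ → Inv ρ g.1) := by
  induction i with
  | zero =>
    intro g hg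
    obtain ⟨v, rfl⟩ := (mem_lev0 ρ G₀).mp hg
    refine ⟨le_rfl, inf_le_left, fun a ha => inf_le_inf_left _ (cent_anti ?_),
      fun h => inv_inf_cent ρ h _⟩
    rw [Set.singleton_subset_iff]
    exact ha v (List.mem_singleton_self v)
  | succ i ih =>
    intro g hg
    obtain ⟨e, he, f, hf, v, rfl⟩ := (mem_step ρ).mp hg
    obtain ⟨el, et, ea, ei⟩ := ih e he
    cases full
    · obtain ⟨w, rfl⟩ := (mem_lev0 ρ G₀).mp (show f ∈ lev0 ρ G₀ from hf)
      refine ⟨?_, inf_le_left.trans (Subgroup.commutator_mono et inf_le_left), fun a ha => ?_,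
        fun h => inv_inf_cent ρ (fun b => normalizer_commutator (ei h b) (inv_inf_cent ρ h _ b)) _⟩
      · show (e.2 ++ [w]).length ≤ ll i false + 1
        simpa using el
      · refine inf_le_left.trans (Subgroup.commutator_mono
          (ea a fun u hu => ha u (List.mem_append_left _ hu)) (inf_le_inf_left _ (cent_anti ?_)))
        rw [Set.singleton_subset_iff]
        exact ha w (List.mem_append_right _ (List.mem_singleton_self w))
    · obtain ⟨fl, ft, fa, fi⟩ := ih f hf
      refine ⟨?_, inf_le_left.trans (Subgroup.commutator_mono et ft), fun a ha =>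
        inf_le_left.trans (Subgroup.commutator_mono (ea a fun u hu => ha u (List.mem_append_left _ hu))
          (fa a fun u hu => ha u (List.mem_append_right _ hu))),
        fun h => inv_inf_cent ρ (fun b => normalizer_commutator (ei h b) (fi h b)) _⟩
      show (e.2 ++ f.2).length ≤ ll i true + ll i true
      rw [List.length_append]
      omega

theorem dom_succ (i : ℕ) : Dom (lev ρ G₀ full (i + 1)) (lev ρ G₀ full i) := by
  induction i with
  | zero =>
    intro g hg
    obtain ⟨e, he, f, hf, v, rfl⟩ := (mem_step ρ).mp hg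
    refine ⟨_, (mem_lev0 ρ G₀).mpr ⟨v, rfl⟩, inf_le_inf_right _ ?_⟩
    have h1 : e.1 ≤ G₀ := (lev_props ρ G₀ full 0 e he).2.1
    have h2 : f.1 ≤ G₀ := (lev_props ρ G₀ full 0 f (by cases full <;> exact hf)).2.1
    exact (Subgroup.commutator_mono h1 h2).trans (term_le false G₀ 1)
  | succ i ih =>
    intro g hg
    cases full
    · exact Dom.step ρ ih (fun f hf => ⟨f, hf, le_rfl⟩) g hg
    · exact Dom.step ρ ih ih g hg

theorem dom_zero : ∀ i, Dom (lev ρ G₀ full i) (lev0 ρ G₀)
  | 0 => fun e he => ⟨e, he, le_rfl⟩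
  | i + 1 => (dom_succ ρ G₀ full i).trans (dom_zero i)

/-- The closure property. -/
theorem lev_close (i : ℕ) {e f : Spec p k X} (he : e ∈ lev ρ G₀ full i) (hf : f ∈ lev ρ G₀ full i)
    (v : Fin k → ZMod p) : ∃ g ∈ lev ρ G₀ full i,
      ⁅e.1, f.1⁆ ⊓ cent ρ ((kerOf v : AddSubgroup (Fin k → ZMod p)) : Set (Fin k → ZMod p)) ≤ g.1 := by
  obtain ⟨f', hf', hff⟩ : ∃ f' ∈ (if full then lev ρ G₀ full i else lev0 ρ G₀), f.1 ≤ f'.1 := by
    cases full
    · exact dom_zero ρ G₀ false i f hf
    · exact ⟨f, hf, le_rfl⟩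
  obtain ⟨g, hg, hle⟩ := dom_succ ρ G₀ full i _ ((mem_step ρ).mpr ⟨e, he, f', hf', v, rfl⟩)
  exact ⟨g, hg, (inf_le_inf_right _ (Subgroup.commutator_mono le_rfl hff)).trans hle⟩

/-- The specs generate. -/
theorem sSup_lev (hinv : Inv ρ G₀) (hcop : (Nat.card ↥G₀).Coprime p) :
    ∀ i, sSup (subs (lev ρ G₀ full i)) = term full G₀ i := by
  have h0 : sSup (subs (lev0 ρ G₀)) = G₀ := by
    refine le_antisymm (sSup_le ?_) ((gen_hyper ρ hinv hcop).trans (iSup_le fun v => le_sSup ?_))
    · rintro H ⟨g, hg, rfl⟩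
      obtain ⟨v, rfl⟩ := (mem_lev0 ρ G₀).mp hg
      exact inf_le_left
    · exact ⟨_, (mem_lev0 ρ G₀).mpr ⟨v, rfl⟩, rfl⟩
  intro i
  induction i with
  | zero => exact h0
  | succ i ih =>
    set Q := if full then lev ρ G₀ full i else lev0 ρ G₀ with hQ
    have hQsup : sSup (subs Q) = (if full then term full G₀ i else G₀) := by
      rw [hQ]
      cases full
      · exact h0
      · exact ih
    refine le_antisymm (sSup_le ?_) ?_
    · rintro H ⟨g, hg, rfl⟩
      exact (lev_props ρ G₀ full (i + 1) g hg).2.1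
    set S := sSup (subs (lev ρ G₀ full (i + 1))) with hS
    have hmem : ∀ e ∈ lev ρ G₀ full i, ∀ f ∈ Q, ⁅e.1, f.1⁆ ≤ S := by
      intro e he f hf
      have hfi : Inv ρ f.1 := by
        cases full
        · exact (lev_props ρ G₀ false 0 f hf).2.2.2 hinv
        · exact (lev_props ρ G₀ true i f hf).2.2.2 hinv
      have hfle : f.1 ≤ G₀ := by
        cases full
        · exact (lev_props ρ G₀ false 0 f hf).2.1
        · exact (lev_props ρ G₀ true i f hf).2.1.trans (term_le _ _ _)
      have hele : e.1 ≤ G₀ := (lev_props ρ G₀ full i e he).2.1.trans (term_le _ _ _)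
      refine (gen_hyper ρ (fun b => normalizer_commutator ((lev_props ρ G₀ full i e he).2.2.2 hinv b)
        (hfi b)) ?_).trans (iSup_le fun v => le_sSup ⟨_, (mem_step ρ).mpr ⟨e, he, f, hf, v, rfl⟩, rfl⟩)
      exact hcop.coprime_dvd_left (Subgroup.card_dvd_of_le
        ((Subgroup.commutator_mono hele hfle).trans (term_le false G₀ 1)))
    have hnorm : ∀ F ∈ subs Q, F ≤ Subgroup.normalizer (S : Set X) := by
      rintro F ⟨f, hf, rfl⟩ x hx
      refine CfsgLib.Coprime.mem_normalizer_of_conj_map_le fun z hz => ?_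
      rw [hS, sSup_eq_iSup'] at hz
      refine Subgroup.iSup_induction (fun H : subs (lev ρ G₀ full (i + 1)) => (H : Subgroup X))
        (C := fun z => x * z * x⁻¹ ∈ S) hz (fun H d hd => ?_) (by simp)
        (fun u w hu hw => by simpa [mul_assoc] using S.mul_mem hu hw)
      obtain ⟨g, hg, hgH⟩ := H.2
      obtain ⟨e, he, hge⟩ := dom_succ ρ G₀ full i g hg
      have h1 : ⁅d, x⁆ ∈ S := hmem e he f hf (Subgroup.commutator_mem_commutator (hge (hgH ▸ hd)) hx)
      have h2 : d ∈ S := le_sSup H.2 hd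
      rw [show x * d * x⁻¹ = ⁅d, x⁆⁻¹ * d by simp only [commutatorElement_def]; group]
      exact S.mul_mem (S.inv_mem h1) h2
    show ⁅term full G₀ i, if full then term full G₀ i else G₀⁆ ≤ S
    rw [← hQsup, ← ih]
    refine commutator_sSup_le ?_ hnorm ?_
    · rintro F ⟨e, he, rfl⟩
      refine (le_sSup ⟨e, he, rfl⟩ : e.1 ≤ sSup (subs (lev ρ G₀ full i))).trans ?_
      refine le_trans (le_of_eq ih) (le_trans ?_ (sSup_le hnorm))
      rw [hQsup]
      cases full
      · exact term_le false G₀ i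
      · exact le_rfl
    · rintro E ⟨e, he, rfl⟩ F ⟨f, hf, rfl⟩
      exact hmem e he f hf

/-- The main theorem, in an ambient group. -/
theorem main (i c : ℕ) (hinv : Inv ρ G₀) (hcop : (Nat.card ↥G₀).Coprime p)
    (hsolv : Group.IsSolvable ↥G₀) (hlen : ll i full + 2 ≤ k)
    (hC : ∀ a : Fin k → ZMod p, a ≠ 0 →
      (term full (G₀ ⊓ cent ρ {a}) i).lowerCentralSeries c = ⊥) :
    (term full G₀ i).lowerCentralSeries (bnd p k (rr p k i full) c k) = ⊥ := by
  classical
  set N := term full G₀ i with hN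
  set l := lev ρ G₀ full i with hl
  have hNinv : Inv ρ N := fun a => term_normalizer (hinv a) full i
  have hNcop : (Nat.card ↥N).Coprime p :=
    hcop.coprime_dvd_left (Subgroup.card_dvd_of_le (term_le _ _ _))
  have hrank : ∀ L : List (Fin k → ZMod p), L.length ≤ ll i full → ∀ φ : Fin k → ZMod p,
      ∃ a, a ≠ 0 ∧ (∀ v ∈ L, dot v a = 0) ∧ dot φ a = 0 := by
    intro L hL φ
    obtain ⟨x, y, hxy, he⟩ := Fintype.exists_ne_map_eq_of_card_lt
      (fun a : Fin k → ZMod p => fun j : Fin (φ :: L).length => dot (φ :: L)[j] a) (by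
        rw [Fintype.card_fun, Fintype.card_fun, ZMod.card, Fintype.card_fin, Fintype.card_fin]
        refine Nat.pow_lt_pow_right (Fact.out : p.Prime).one_lt ?_
        simp only [List.length_cons]
        omega)
    have hd : ∀ v ∈ φ :: L, dot v (x - y) = 0 := by
      intro v hv
      obtain ⟨j, hj, rfl⟩ := List.mem_iff_getElem.mp hv
      have h := congrFun he ⟨j, hj⟩
      have h2 := dot_add (φ :: L)[j] (x - y) y
      rw [sub_add_cancel] at h2
      simp only [Fin.getElem_fin] at h
      rw [h] at h2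
      exact (right_eq_add.mp h2)
    exact ⟨x - y, sub_ne_zero.mpr hxy, fun v hv => hd v (List.mem_cons_of_mem _ hv),
      hd φ List.mem_cons_self⟩
  have hVn : ∀ a : Fin k → ZMod p, N ⊓ cent ρ {a} ≤
      Subgroup.normalizer (term full (G₀ ⊓ cent ρ {a}) i : Set X) := fun a x hx =>
    term_normalizer (Subgroup.le_normalizer (show x ∈ G₀ ⊓ cent ρ {a} from ⟨term_le _ _ _ hx.1, hx.2⟩)) full i
  have hgen : N ≤ ⨆ j : Fin l.length, (l.get j).1 := by
    rw [hN, ← sSup_lev ρ G₀ full hinv hcop i]
    refine sSup_le ?_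
    rintro H ⟨e, he, rfl⟩
    obtain ⟨j, rfl⟩ := List.mem_iff_get.mp he
    exact le_iSup (fun j : Fin l.length => (l.get j).1) j
  -- nilpotency
  have hnil : Group.IsNilpotent ↥N := by
    haveI : Group.IsSolvable ↥N := CfsgLib.Coprime.isSolvable_of_le (term_le _ _ _) hsolv
    let S : Set ↥N := {g | ∃ e ∈ l, (g : X) ∈ e.1}
    refine nilpotent_of_sections (S := S) ?_ ?_
    · rw [eq_top_iff]
      intro g _
      have h1 : (g : X) ∈ (Subgroup.closure S).map N.subtype := by
        have hle : (⨆ j : Fin l.length, (l.get j).1) ≤ (Subgroup.closure S).map N.subtype :=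
          iSup_le fun j x hx => ⟨⟨x, (lev_props ρ G₀ full i _ (List.get_mem l j)).2.1 hx⟩,
            Subgroup.subset_closure ⟨_, List.get_mem l j, hx⟩, rfl⟩
        exact hle (hgen g.2)
      obtain ⟨g', hg', e⟩ := h1
      rwa [← show g' = g from Subtype.ext e]
    intro M M' hM hM' hMM' r hr hsec s ⟨e, he, hse⟩ j hj m hm
    haveI := hM
    set d : ↥N := s ^ j with hd
    have hde : (d : X) ∈ e.1 := by rw [hd, SubgroupClass.coe_zpow]; exact e.1.zpow_mem hse j
    have hchar : ∀ H : Subgroup ↥N, H.Characteristic → Inv ρ (H.map N.subtype) := by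
      intro H hH a
      let φ : MulAut ↥N := MonoidHom.toMulEquiv (act ρ hNinv (Multiplicative.toAdd a))
        (act ρ hNinv (-Multiplicative.toAdd a))
        (by rw [act_add, neg_add_cancel, act_zero]) (by rw [act_add, add_neg_cancel, act_zero])
      refine CfsgLib.Coprime.mem_normalizer_of_conj_map_le ?_
      rintro _ ⟨z, hz, rfl⟩
      exact ⟨φ z, (SetLike.ext_iff.mp (Subgroup.characteristic_iff_comap_eq.mp hH φ) z).mpr hz, rfl⟩
    let T : Subgroup ↥N :=
      { carrier := {x | ⁅d, x⁆ ∈ M}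
        one_mem' := by simp [Subgroup.one_mem]
        mul_mem' := fun {x y} (hx : ⁅d, x⁆ ∈ M) (hy : ⁅d, y⁆ ∈ M) => by
          show ⁅d, x * y⁆ ∈ M
          rw [show ⁅d, x * y⁆ = ⁅d, x⁆ * (x * ⁅d, y⁆ * x⁻¹) by
            simp only [commutatorElement_def]; group]
          exact M.mul_mem hx ((Subgroup.normal_of_characteristic M).conj_mem _ hy x)
        inv_mem' := fun {x} (hx : ⁅d, x⁆ ∈ M) => by
          show ⁅d, x⁻¹⁆ ∈ M
          rw [show ⁅d, x⁻¹⁆ = x⁻¹ * ⁅d, x⁆⁻¹ * x⁻¹⁻¹ by simp only [commutatorElement_def]; group]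
          exact (Subgroup.normal_of_characteristic M).conj_mem _ (M.inv_mem hx) x⁻¹ }
    suffices hle : M'.map N.subtype ≤ T.map N.subtype from
      (Subgroup.map_le_map_iff_of_injective N.subtype_injective).mp hle hm
    refine (gen_hyper ρ (hchar M' hM') (hNcop.coprime_dvd_left
      (Subgroup.card_dvd_of_le (Subgroup.map_subtype_le _)))).trans (iSup_le fun v => ?_)
    rintro x ⟨⟨m, hm, rfl⟩, hxc⟩
    refine ⟨m, ?_, rfl⟩
    show ⁅d, m⁆ ∈ M
    obtain ⟨a, ha, haL, hav⟩ := hrank e.2 (lev_props ρ G₀ full i e he).1 v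
    set V := term full (G₀ ⊓ cent ρ {a}) i with hV
    have hdV : (d : X) ∈ V := (lev_props ρ G₀ full i e he).2.2.1 a haL hde
    have hmc : (m : X) ∈ N ⊓ cent ρ {a} :=
      ⟨m.2, mem_cent.mpr fun b hb => mem_cent.mp hxc b (by rw [Set.mem_singleton_iff.mp hb]; exact hav)⟩
    haveI : M.Normal := Subgroup.normal_of_characteristic M
    haveI : M'.Normal := by haveI := hM'; exact Subgroup.normal_of_characteristic M'
    let f := QuotientGroup.mk' M
    let V' : Subgroup (↥N ⧸ M) := (V.subgroupOf N).map f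
    have hV'nil : Group.IsNilpotent ↥V' := by
      haveI : Group.IsNilpotent ↥V := isNilpotent_of_lcs (hC a ha)
      haveI : Group.IsNilpotent ↥(V.subgroupOf N) :=
        Group.nilpotent_of_mulEquiv (Subgroup.subgroupOfEquivOfLe
          (show V ≤ N from term_mono full inf_le_left i)).symm
      exact Group.nilpotent_of_surjective (f.subgroupMap (V.subgroupOf N))
        (MonoidHom.subgroupMap_surjective _ _)
    set z : ↥N := ⁅d, m⁆ with hz
    have hzV : (z : X) ∈ V := by
      rw [hz, comm_coe, commutatorElement_def,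
        show (d : X) * m * (d : X)⁻¹ * (m : X)⁻¹ = d * (m * (d : X)⁻¹ * (m : X)⁻¹) by group]
      exact V.mul_mem hdV ((Subgroup.mem_normalizer_iff.mp (hVn a hmc) _).mp (V.inv_mem hdV))
    have hzM' : z ∈ M' := by
      rw [hz, commutatorElement_def]
      exact M'.mul_mem (‹M'.Normal›.conj_mem m hm d) (M'.inv_mem hm)
    obtain ⟨t, ht⟩ := hsec z hzM'
    have hzt : f z ^ r ^ t = 1 := by
      rw [← map_pow]
      exact (QuotientGroup.eq_one_iff _).mpr ht
    have hdco : (orderOf (f d)).Coprime r := hj.coprime_dvd_left (orderOf_map_dvd f d)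
    have hcomm : f d * f z = f z * f d := by
      have h := commute_of_coprime' hV'nil (a := ⟨f d, ⟨d, hdV, rfl⟩⟩) (b := ⟨f z, ⟨z, hzV, rfl⟩⟩)
        (by
          rw [← Subgroup.orderOf_coe, ← Subgroup.orderOf_coe]
          exact (hdco.pow_right t).coprime_dvd_right (orderOf_dvd_of_pow_eq_one hzt))
      exact congrArg Subtype.val h
    have hconj : ∀ n : ℕ, (f d) ^ n * f m * ((f d) ^ n)⁻¹ = (f z) ^ n * f m := by
      intro n
      induction n with
      | zero => simp
      | succ n ih =>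
        have h1 : f d * f m * (f d)⁻¹ = f z * f m := by
          rw [hz, map_commutatorElement, commutatorElement_def]; group
        calc (f d) ^ (n + 1) * f m * ((f d) ^ (n + 1))⁻¹
            = f d * ((f d) ^ n * f m * ((f d) ^ n)⁻¹) * (f d)⁻¹ := by rw [pow_succ']; group
          _ = (f d * (f z) ^ n) * f m * (f d)⁻¹ := by rw [ih]; group
          _ = (f z) ^ n * (f d * f m * (f d)⁻¹) := by
              rw [(Commute.pow_right hcomm n).eq]; group
          _ = (f z) ^ (n + 1) * f m := by rw [h1, pow_succ, mul_assoc]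
    have hzn : (f z) ^ orderOf (f d) = 1 := by
      have h := hconj (orderOf (f d))
      rw [pow_orderOf_eq_one, inv_one, one_mul, mul_one] at h
      exact mul_eq_right.mp h.symm
    have h := Nat.dvd_gcd (orderOf_dvd_of_pow_eq_one hzn) (orderOf_dvd_of_pow_eq_one hzt)
    rw [(hdco.pow_right t).gcd_eq_one, Nat.dvd_one, orderOf_eq_one_iff] at h
    exact (QuotientGroup.eq_one_iff _).mp h
  refine class_le ρ hnil hNcop (fun j : Fin l.length => (l.get j).1) (fun j => (l.get j).2)
    (fun a => term full (G₀ ⊓ cent ρ {a}) i)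
    (by rw [Fintype.card_fin, hl, length_lev]) hNinv hgen
    (fun j => (lev_props ρ G₀ full i _ (List.get_mem l j)).2.1)
    (fun j => (lev_props ρ G₀ full i _ (List.get_mem l j)).2.2.2 hinv)
    (fun j => hrank _ (lev_props ρ G₀ full i _ (List.get_mem l j)).1)
    (fun j a _ haL => (lev_props ρ G₀ full i _ (List.get_mem l j)).2.2.1 a haL)
    (fun a _ => (term_le _ _ _).trans inf_le_right) (fun a _ => hVn a) hC ?_
  intro j j' v
  obtain ⟨g, hg, hle⟩ := lev_close ρ G₀ full i (List.get_mem l j) (List.get_mem l j') v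
  obtain ⟨q, rfl⟩ := List.mem_iff_get.mp hg
  exact ⟨q, hle⟩

end CfsgLib.PGroup.FixedTerms
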