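import Cfsg.Agent.Lib.PGroup.FixedTerms.GradedAction
import Cfsg.Agent.Lib.Solvable.FPFClassBound
import Cfsg.Agent.Lib.Coprime.Action
import Mathlib.RingTheory.AdjoinRoot
import Mathlib.RingTheory.Polynomial.Cyclotomic.Basic
import Mathlib.RingTheory.TensorProduct.Maps

/-!
From groups to graded Lie rings: the class of a nilpotent group, on which an elementary abelian
group acts coprimely, generated by subgroups inside nilpotent subgroups of fixed-point groups.
-/

set_option autoImplicit false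

open scoped TensorProduct commutatorElement

namespace CfsgLib.PGroup.FixedTerms

open CfsgLib.Solvable.AssocLieRing
open CfsgLib.Solvable.FPFClassBound (phi phi_cls phi_lie map_mem)

/-! ### The scalars -/

/-- The ring of integers with a root of the cyclotomic polynomial of degree `p`. -/
abbrev Cy (p : ℕ) : Type := AdjoinRoot (Polynomial.cyclotomic p ℤ)

/-- The powers of the root. -/
noncomputable def zt (p : ℕ) (i : ZMod p) : Cy p :=
  AdjoinRoot.root (Polynomial.cyclotomic p ℤ) ^ i.val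

theorem root_sum (p : ℕ) [Fact p.Prime] :
    ∑ i ∈ Finset.range p, AdjoinRoot.root (Polynomial.cyclotomic p ℤ) ^ i = 0 := by
  have h := AdjoinRoot.mk_self (f := Polynomial.cyclotomic p ℤ)
  conv at h =>
    lhs
    arg 2
    rw [Polynomial.cyclotomic_prime]
  rw [map_sum] at h
  simpa only [map_pow, AdjoinRoot.mk_X] using h

theorem root_pow (p : ℕ) [Fact p.Prime] :
    AdjoinRoot.root (Polynomial.cyclotomic p ℤ) ^ p = 1 := by
  have h := geom_sum_mul (AdjoinRoot.root (Polynomial.cyclotomic p ℤ)) p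
  rw [root_sum, zero_mul] at h
  exact (sub_eq_zero.mp h.symm)

theorem zt_zero (p : ℕ) [Fact p.Prime] : zt p 0 = 1 := by rw [zt, ZMod.val_zero, pow_zero]

theorem zt_add {p : ℕ} [Fact p.Prime] (i j : ZMod p) : zt p (i + j) = zt p i * zt p j := by
  rw [zt, zt, zt, ← pow_add, ZMod.val_add]
  exact (pow_eq_pow_mod _ (root_pow p)).symm

theorem sum_zt {p : ℕ} [Fact p.Prime] : ∑ i : ZMod p, zt p i = 0 := by
  rw [← root_sum p]
  refine Finset.sum_nbij (fun i => i.val) (fun i _ => Finset.mem_range.mpr (ZMod.val_lt i))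
    (fun a _ b _ h => ZMod.val_injective p h) (fun m hm => ?_) (fun _ _ => rfl)
  exact ⟨(m : ZMod p), Finset.mem_univ _, ZMod.val_cast_of_lt (Finset.mem_range.mp hm)⟩

theorem sum_zt_mul {p : ℕ} [Fact p.Prime] (t : ZMod p) :
    ∑ i : ZMod p, zt p (i * t) = if t = 0 then (p : Cy p) else 0 := by
  by_cases ht : t = 0
  · subst ht
    simp [zt_zero, ZMod.card]
  · rw [if_neg ht]
    exact (Fintype.sum_equiv (Equiv.mulRight₀ t ht) _ _ fun i => rfl).trans sum_zt

theorem exists_retraction (p : ℕ) [Fact p.Prime] : ∃ f : Cy p →+ ℤ, f 1 = 1 := by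
  have hm : (Polynomial.cyclotomic p ℤ).Monic := Polynomial.cyclotomic.monic p ℤ
  let b := (AdjoinRoot.powerBasis' hm).basis
  have hd : 0 < (AdjoinRoot.powerBasis' hm).dim := by
    rw [AdjoinRoot.powerBasis'_dim, Polynomial.natDegree_cyclotomic]
    exact Nat.totient_pos.mpr (Fact.out : p.Prime).pos
  refine ⟨(b.coord ⟨0, hd⟩).toAddMonoidHom, ?_⟩
  have h1 : b ⟨0, hd⟩ = 1 := by simp [b, PowerBasis.coe_basis]
  show b.coord ⟨0, hd⟩ (1 : Cy p) = 1
  rw [← h1]
  simp

/-! ### The setting -/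

variable {p k : ℕ}

/-- The dot product. -/
def dot (v a : Fin k → ZMod p) : ZMod p := ∑ i, v i * a i

theorem dot_add (v a b : Fin k → ZMod p) : dot v (a + b) = dot v a + dot v b := by
  simp [dot, mul_add, Finset.sum_add_distrib]

theorem add_dot (v w a : Fin k → ZMod p) : dot (v + w) a = dot v a + dot w a := by
  simp [dot, add_mul, Finset.sum_add_distrib]

theorem neg_dot (v a : Fin k → ZMod p) : dot (-v) a = -dot v a := by
  simp [dot, Finset.sum_neg_distrib]

theorem dot_zero (v : Fin k → ZMod p) : dot v 0 = 0 := by simp [dot]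

theorem zero_dot (a : Fin k → ZMod p) : dot 0 a = 0 := by simp [dot]

/-- The kernel of a covector. -/
def kerOf (v : Fin k → ZMod p) : AddSubgroup (Fin k → ZMod p) where
  carrier := {a | dot v a = 0}
  zero_mem' := dot_zero v
  add_mem' := fun {a b} (ha : dot v a = 0) (hb : dot v b = 0) => by
    show dot v (a + b) = 0
    rw [dot_add, ha, hb, add_zero]
  neg_mem' := fun {a} (ha : dot v a = 0) => by
    show dot v (-a) = 0
    have h := dot_add v (-a) a
    rw [neg_add_cancel, dot_zero, ha, add_zero] at h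
    exact h.symm

theorem mem_kerOf {v a : Fin k → ZMod p} : a ∈ kerOf v ↔ dot v a = 0 := Iff.rfl

theorem sum_zt_dot [Fact p.Prime] (a : Fin k → ZMod p) :
    ∑ w : Fin k → ZMod p, zt p (dot w a) = if a = 0 then ((p ^ k : ℕ) : Cy p) else 0 := by
  classical
  have hhom : ∀ s : Finset (Fin k), ∀ f : Fin k → ZMod p,
      zt p (∑ i ∈ s, f i) = ∏ i ∈ s, zt p (f i) := by
    intro s f
    induction s using Finset.induction_on with
    | empty => rw [Finset.sum_empty, Finset.prod_empty, zt_zero]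
    | insert x s hx ih => rw [Finset.sum_insert hx, Finset.prod_insert hx, zt_add, ih]
  have e : ∑ w : Fin k → ZMod p, zt p (dot w a) = ∏ i : Fin k, ∑ t : ZMod p, zt p (t * a i) := by
    rw [Fintype.prod_sum]
    exact Finset.sum_congr rfl fun w _ => hhom _ _
  rw [e]
  by_cases ha : a = 0
  · subst ha
    rw [if_pos rfl, Nat.cast_pow]
    simp [sum_zt_mul, zt_zero]
  · rw [if_neg ha]
    obtain ⟨i, hi⟩ := Function.ne_iff.mp ha
    exact Finset.prod_eq_zero (Finset.mem_univ i) (by rw [sum_zt_mul, if_neg]; exact hi)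

section Maps

variable {G : Type*} [Group G]

theorem phi_phi (α β : G →* G) (x : LieR G) : phi α (phi β x) = phi (α.comp β) x := by
  induction x using lie_induction with
  | h0 => simp
  | hadd u v hu hv => rw [map_add, map_add, map_add, hu, hv]
  | hcls n g hg => rw [phi_cls β hg, phi_cls α (map_mem β hg), phi_cls (α.comp β) hg]; rfl

theorem phi_id (x : LieR G) : phi (MonoidHom.id G) x = x := by
  induction x using lie_induction with
  | h0 => simp
  | hadd u v hu hv => rw [map_add, hu, hv]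
  | hcls n g hg => rw [phi_cls _ hg]; rfl

end Maps

variable {X : Type*} [Group X]

/-- The centraliser of the image of a set of vectors. -/
def cent (ρ : Multiplicative (Fin k → ZMod p) →* X) (s : Set (Fin k → ZMod p)) : Subgroup X :=
  Subgroup.centralizer ((fun a => ρ (Multiplicative.ofAdd a)) '' s)

theorem mem_cent {ρ : Multiplicative (Fin k → ZMod p) →* X} {s : Set (Fin k → ZMod p)} {x : X} :
    x ∈ cent ρ s ↔ ∀ a ∈ s, ρ (Multiplicative.ofAdd a) * x = x * ρ (Multiplicative.ofAdd a) := by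
  simp [cent, Subgroup.mem_centralizer_iff]

theorem cent_anti {ρ : Multiplicative (Fin k → ZMod p) →* X} {s t : Set (Fin k → ZMod p)}
    (h : s ⊆ t) : cent ρ t ≤ cent ρ s :=
  Subgroup.centralizer_le (Set.image_mono h)

theorem rho_mem_normalizer_cent (ρ : Multiplicative (Fin k → ZMod p) →* X)
    (s : Set (Fin k → ZMod p)) (a : Multiplicative (Fin k → ZMod p)) :
    ρ a ∈ Subgroup.normalizer (cent ρ s : Set X) := by
  have hone : ∀ (b : Multiplicative (Fin k → ZMod p)) (x : X), x ∈ cent ρ s →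
      ρ b * x * (ρ b)⁻¹ ∈ cent ρ s := by
    intro b x hx
    rw [mem_cent] at hx ⊢
    intro c hc
    have h1 : ρ (Multiplicative.ofAdd c) * ρ b = ρ b * ρ (Multiplicative.ofAdd c) := by
      rw [← map_mul, mul_comm, map_mul]
    calc ρ (Multiplicative.ofAdd c) * (ρ b * x * (ρ b)⁻¹)
        = ρ b * (ρ (Multiplicative.ofAdd c) * x) * (ρ b)⁻¹ := by rw [← mul_assoc, ← mul_assoc, h1]; group
      _ = ρ b * x * (ρ (Multiplicative.ofAdd c) * (ρ b)⁻¹) := by rw [hx c hc]; group
      _ = ρ b * x * ((ρ b)⁻¹ * ρ (Multiplicative.ofAdd c)) := by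
          rw [← map_inv, ← map_mul, mul_comm, map_mul]
      _ = ρ b * x * (ρ b)⁻¹ * ρ (Multiplicative.ofAdd c) := by group
  rw [Subgroup.mem_normalizer_iff]
  intro x
  refine ⟨hone a x, fun h => ?_⟩
  have := hone a⁻¹ _ h
  simpa [mul_assoc] using this

variable (ρ : Multiplicative (Fin k → ZMod p) →* X) {N : Subgroup X}
  (hN : ∀ a, ρ a ∈ Subgroup.normalizer (N : Set X))

/-- The action on `N`. -/
def act (a : Fin k → ZMod p) : ↥N →* ↥N where
  toFun g := ⟨ρ (Multiplicative.ofAdd a) * g * (ρ (Multiplicative.ofAdd a))⁻¹,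
    (Subgroup.mem_normalizer_iff.mp (hN _) g).mp g.2⟩
  map_one' := by ext; simp
  map_mul' g h := by
    ext
    simp only [Subgroup.coe_mul]
    group

theorem act_coe (a : Fin k → ZMod p) (g : ↥N) :
    (act ρ hN a g : X) = ρ (Multiplicative.ofAdd a) * g * (ρ (Multiplicative.ofAdd a))⁻¹ := rfl

theorem act_add (a b : Fin k → ZMod p) : (act ρ hN a).comp (act ρ hN b) = act ρ hN (a + b) := by
  ext g
  simp only [MonoidHom.comp_apply, act_coe, ofAdd_add, map_mul]
  group

theorem act_zero : act ρ hN 0 = MonoidHom.id ↥N := by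
  ext g
  simp [act_coe]

/-- The Lie ring of `N`, with scalars extended. -/
abbrev LX (p : ℕ) (N : Subgroup X) : Type _ := Cy p ⊗[ℤ] LieR ↥N

/-- The action on the Lie ring. -/
noncomputable def T (a : Fin k → ZMod p) : LX p N →ₗ[Cy p] LX p N :=
  (phi (act ρ hN a)).toIntLinearMap.baseChange (Cy p)

theorem T_tmul (a : Fin k → ZMod p) (r : Cy p) (x : LieR ↥N) :
    T ρ hN a (r ⊗ₜ x) = r ⊗ₜ phi (act ρ hN a) x := rfl

theorem T_T (a b : Fin k → ZMod p) (v : LX p N) : T ρ hN a (T ρ hN b v) = T ρ hN (a + b) v := by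
  induction v using TensorProduct.induction_on with
  | zero => simp
  | tmul r x => rw [T_tmul, T_tmul, T_tmul, phi_phi, act_add]
  | add u v hu hv => rw [map_add, map_add, map_add, hu, hv]

theorem T_zero (v : LX p N) : T ρ hN 0 v = v := by
  induction v using TensorProduct.induction_on with
  | zero => simp
  | tmul r x => rw [T_tmul, act_zero, phi_id]
  | add u v hu hv => rw [map_add, hu, hv]

theorem lie_addX (u v w : LX p N) : ⁅u, v + w⁆ = ⁅u, v⁆ + ⁅u, w⁆ := lie_add u v w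

theorem add_lieX (u v w : LX p N) : ⁅u + v, w⁆ = ⁅u, w⁆ + ⁅v, w⁆ := add_lie u v w

theorem lie_zeroX (u : LX p N) : ⁅u, (0 : LX p N)⁆ = 0 := lie_zero u

theorem zero_lieX (u : LX p N) : ⁅(0 : LX p N), u⁆ = 0 := zero_lie u

theorem lie_smulX (r : Cy p) (u v : LX p N) : ⁅u, r • v⁆ = r • ⁅u, v⁆ := lie_smul r u v

theorem smul_lieX (r : Cy p) (u v : LX p N) : ⁅r • u, v⁆ = r • ⁅u, v⁆ := smul_lie r u v

theorem lie_nsmulX (n : ℕ) (u v : LX p N) : ⁅u, n • v⁆ = n • ⁅u, v⁆ := lie_nsmul u v n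

theorem nsmul_lieX (n : ℕ) (u v : LX p N) : ⁅n • u, v⁆ = n • ⁅u, v⁆ := nsmul_lie u v n

theorem lie_sumX {α : Type*} (s : Finset α) (u : LX p N) (f : α → LX p N) :
    ⁅u, ∑ i ∈ s, f i⁆ = ∑ i ∈ s, ⁅u, f i⁆ := lie_sum s f u

theorem sum_lieX {α : Type*} (s : Finset α) (f : α → LX p N) (u : LX p N) :
    ⁅∑ i ∈ s, f i, u⁆ = ∑ i ∈ s, ⁅f i, u⁆ := sum_lie s f u

theorem T_lie (a : Fin k → ZMod p) (u v : LX p N) :
    T ρ hN a ⁅u, v⁆ = ⁅T ρ hN a u, T ρ hN a v⁆ := by
  induction u using TensorProduct.induction_on with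
  | zero => rw [zero_lieX, map_zero, zero_lieX]
  | tmul r x =>
    induction v using TensorProduct.induction_on with
    | zero => rw [lie_zeroX, map_zero, lie_zeroX]
    | tmul s y =>
      rw [LieAlgebra.ExtendScalars.bracket_tmul, T_tmul, T_tmul, T_tmul,
        LieAlgebra.ExtendScalars.bracket_tmul, phi_lie]
    | add v w hv hw => rw [lie_addX, map_add, map_add, lie_addX, hv, hw]
  | add u w hu hw => rw [add_lieX, map_add, map_add, add_lieX, hu, hw]

/-- The eigencomponents. -/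
noncomputable def Ew (w : Fin k → ZMod p) : Submodule (Cy p) (LX p N) :=
  ⨅ a, LinearMap.ker (T ρ hN a - zt p (dot w a) • LinearMap.id)

theorem mem_Ew {w : Fin k → ZMod p} {v : LX p N} :
    v ∈ Ew ρ hN w ↔ ∀ a, T ρ hN a v = zt p (dot w a) • v := by
  simp [Ew, sub_eq_zero]

/-- The projection, up to the factor `p ^ k`. -/
noncomputable def proj [Fact p.Prime] (w : Fin k → ZMod p) : LX p N →ₗ[Cy p] LX p N :=
  ∑ a, zt p (-dot w a) • T ρ hN a

theorem proj_apply [Fact p.Prime] (w : Fin k → ZMod p) (v : LX p N) :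
    proj ρ hN w v = ∑ a, zt p (-dot w a) • T ρ hN a v := by
  simp [proj]

variable [Fact p.Prime]

theorem Ew_lie {w w' : Fin k → ZMod p} {x y : LX p N} (hx : x ∈ Ew ρ hN w) (hy : y ∈ Ew ρ hN w') :
    ⁅x, y⁆ ∈ Ew ρ hN (w + w') := by
  rw [mem_Ew] at hx hy ⊢
  intro a
  rw [T_lie, hx, hy, add_dot, zt_add, smul_lieX, lie_smulX, smul_smul]

theorem proj_mem (w : Fin k → ZMod p) (v : LX p N) : proj ρ hN w v ∈ Ew ρ hN w := by
  rw [mem_Ew]
  intro b
  rw [proj_apply, map_sum, Finset.smul_sum]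
  refine Fintype.sum_equiv (Equiv.addLeft b) _ _ fun a => ?_
  rw [map_smul, T_T, Equiv.coe_addLeft, smul_smul, ← zt_add, dot_add]
  congr 2
  abel

theorem sum_proj (v : LX p N) : ∑ w, proj ρ hN w v = (p ^ k) • v := by
  simp only [proj_apply]
  rw [Finset.sum_comm]
  simp only [← Finset.sum_smul]
  have e : ∀ a : Fin k → ZMod p, ∑ w : Fin k → ZMod p, zt p (-dot w a) =
      if a = 0 then ((p ^ k : ℕ) : Cy p) else 0 := by
    intro a
    rw [← sum_zt_dot a]
    exact Fintype.sum_equiv (Equiv.neg _) _ _ fun w => by rw [Equiv.neg_apply, neg_dot]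
  simp only [e, ite_smul, zero_smul, Finset.sum_ite_eq', Finset.mem_univ, if_true, T_zero,
    Nat.cast_smul_eq_nsmul]

theorem proj_eq {w : Fin k → ZMod p} {v : LX p N} (hv : v ∈ Ew ρ hN w) :
    proj ρ hN w v = (p ^ k) • v := by
  rw [mem_Ew] at hv
  rw [proj_apply, Finset.sum_congr rfl (fun a _ => by
    rw [hv a, smul_smul, ← zt_add, neg_add_cancel, zt_zero, one_smul]),
    Finset.sum_const, Finset.card_univ]
  simp [ZMod.card]

variable [Finite X] (hcop : (Nat.card ↥N).Coprime p)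

omit [Fact p.Prime] in
include hcop in
/-- Numbers prime to the order of `N` are invertible. -/
theorem mem_of_nsmul_mem {S : Submodule (Cy p) (LX p N)} {v : LX p N} {m : ℕ} (hm : m ∣ p ^ k)
    (h : m • v ∈ S) : v ∈ S := by
  have hcard : ∀ w : LX p N, Nat.card ↥N • w = 0 := by
    intro w
    induction w using TensorProduct.induction_on with
    | zero => rw [smul_zero]
    | tmul a x => rw [← TensorProduct.tmul_smul, card_nsmul, TensorProduct.tmul_zero]
    | add u w hu hw => rw [smul_add, hu, hw, add_zero]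
  have hc : m.Coprime (Nat.card ↥N) := Nat.Coprime.coprime_dvd_left hm (hcop.symm.pow_left k)
  obtain ⟨a, ha⟩ : ∃ a b : ℤ, a * (m : ℤ) + b * (Nat.card ↥N : ℤ) = 1 :=
    (Nat.Coprime.isCoprime hc)
  obtain ⟨b, hb⟩ := ha
  have e : v = a • (m • v) := by
    calc v = (a * (m : ℤ) + b * (Nat.card ↥N : ℤ)) • v := by rw [hb, one_smul]
      _ = a • (m • v) := by
          rw [add_smul, mul_smul, mul_smul, natCast_zsmul, natCast_zsmul, hcard, smul_zero,
            add_zero]
  rw [e]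
  exact S.toAddSubgroup.zsmul_mem h a

/-- The span of the classes of the elements of a subgroup. -/
noncomputable def Sp (p : ℕ) (N Y : Subgroup X) : Submodule (Cy p) (LX p N) :=
  Submodule.span (Cy p)
    {v | ∃ (n : ℕ) (g : ↥N), g ∈ γ ↥N n ∧ (g : X) ∈ Y ∧ (1 : Cy p) ⊗ₜ cls n g = v}

omit [Fact p.Prime] [Finite X] in
theorem tmul_mem_Sp {Y : Subgroup X} {n : ℕ} {g : ↥N} (hg : g ∈ γ ↥N n) (hY : (g : X) ∈ Y) :
    (1 : Cy p) ⊗ₜ cls n g ∈ Sp p N Y :=
  Submodule.subset_span ⟨n, g, hg, hY, rfl⟩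

omit [Fact p.Prime] [Finite X] in
theorem Sp_mono {Y Y' : Subgroup X} (h : Y ≤ Y') : Sp p N Y ≤ Sp p N Y' :=
  Submodule.span_mono fun _ ⟨n, g, h1, h2, h3⟩ => ⟨n, g, h1, h h2, h3⟩

omit [Fact p.Prime] [Finite X] in
theorem Sp_bot : Sp p N (⊥ : Subgroup X) = ⊥ := by
  rw [Sp, Submodule.span_eq_bot]
  rintro v ⟨n, g, -, hg, rfl⟩
  rw [show g = 1 from Subtype.ext (Subgroup.mem_bot.mp hg), cls_one, TensorProduct.tmul_zero]

omit [Fact p.Prime] [Finite X] in
theorem lie_mem_of_Sp {Y Z : Subgroup X} {S : Submodule (Cy p) (LX p N)}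
    (h : ∀ (n m : ℕ) (g g' : ↥N), g ∈ γ ↥N n → (g : X) ∈ Y → g' ∈ γ ↥N m → (g' : X) ∈ Z →
      (1 : Cy p) ⊗ₜ cls (n + m + 1) ⁅g, g'⁆ ∈ S)
    {x y : LX p N} (hx : x ∈ Sp p N Y) (hy : y ∈ Sp p N Z) : ⁅x, y⁆ ∈ S := by
  induction hx using Submodule.span_induction with
  | mem u hu =>
    obtain ⟨n, g, hg, hgY, rfl⟩ := hu
    induction hy using Submodule.span_induction with
    | mem w hw =>
      obtain ⟨m, g', hg', hgZ, rfl⟩ := hw
      rw [LieAlgebra.ExtendScalars.bracket_tmul, one_mul, lie_cls hg hg']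
      exact h n m g g' hg hgY hg' hgZ
    | zero => rw [lie_zeroX]; exact zero_mem _
    | add a b _ _ ha hb => rw [lie_addX]; exact add_mem ha hb
    | smul r a _ ha => rw [lie_smulX]; exact S.smul_mem r ha
  | zero => rw [zero_lieX]; exact zero_mem _
  | add a b _ _ ha hb => rw [add_lieX]; exact add_mem ha hb
  | smul r a _ ha => rw [smul_lieX]; exact S.smul_mem r ha

omit [Fact p.Prime] [Finite X] in
theorem comm_coe (g g' : ↥N) : ((⁅g, g'⁆ : ↥N) : X) = ⁅(g : X), (g' : X)⁆ := rfl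

omit [Fact p.Prime] [Finite X] in
theorem lie_mem_Sp {Y Z S : Subgroup X} (h : ∀ g ∈ Y, ∀ g' ∈ Z, g ∈ N → g' ∈ N → ⁅g, g'⁆ ∈ S)
    {x y : LX p N} (hx : x ∈ Sp p N Y) (hy : y ∈ Sp p N Z) : ⁅x, y⁆ ∈ Sp p N S :=
  lie_mem_of_Sp (fun _ _ g g' hg hgY hg' hgZ => tmul_mem_Sp (comm_mem hg hg')
    (by rw [comm_coe]; exact h g hgY g' hgZ g.2 g'.2)) hx hy

omit [Fact p.Prime] [Finite X] in
theorem T_mem_Sp {Y : Subgroup X} (a : Fin k → ZMod p)
    (hY : ρ (Multiplicative.ofAdd a) ∈ Subgroup.normalizer (Y : Set X)) {v : LX p N}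
    (hv : v ∈ Sp p N Y) : T ρ hN a v ∈ Sp p N Y := by
  induction hv using Submodule.span_induction with
  | mem u hu =>
    obtain ⟨n, g, hg, hgY, rfl⟩ := hu
    rw [T_tmul, phi_cls _ hg]
    exact tmul_mem_Sp (map_mem _ hg) ((Subgroup.mem_normalizer_iff.mp hY _).mp hgY)
  | zero => rw [map_zero]; exact zero_mem _
  | add a b _ _ ha hb => rw [map_add]; exact add_mem ha hb
  | smul r a _ ha => rw [map_smul]; exact Submodule.smul_mem _ r ha

omit [Finite X] in
theorem proj_mem_Sp {Y : Subgroup X} (hY : ∀ a, ρ a ∈ Subgroup.normalizer (Y : Set X))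
    (w : Fin k → ZMod p) {v : LX p N} (hv : v ∈ Sp p N Y) : proj ρ hN w v ∈ Sp p N Y := by
  rw [proj_apply]
  exact sum_mem fun a _ => Submodule.smul_mem _ _ (T_mem_Sp ρ hN a (hY _) hv)

include hcop in
/-- Fixed elements come from fixed elements of the group. -/
theorem lift {Y : Subgroup X} (H : AddSubgroup (Fin k → ZMod p))
    (hY : ∀ a ∈ H, ρ (Multiplicative.ofAdd a) ∈ Subgroup.normalizer (Y : Set X)) {v : LX p N}
    (hv : v ∈ Sp p N Y) (hfix : ∀ a ∈ H, T ρ hN a v = v) :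
    v ∈ Sp p N (Y ⊓ cent ρ (H : Set (Fin k → ZMod p))) := by
  classical
  set S := Sp p N (Y ⊓ cent ρ (H : Set (Fin k → ZMod p))) with hS
  haveI : Fintype ↥H := Fintype.ofFinite _
  suffices h : ∀ u ∈ Sp p N Y, ∑ a : ↥H, T ρ hN (a : Fin k → ZMod p) u ∈ S by
    have h' := h v hv
    rw [Finset.sum_congr rfl (fun a _ => hfix a.1 a.2), Finset.sum_const, Finset.card_univ] at h'
    refine mem_of_nsmul_mem (k := k) hcop ?_ h'
    have := AddSubgroup.card_addSubgroup_dvd_card H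
    simpa [Nat.card_eq_fintype_card, ZMod.card] using this
  intro u hu
  induction hu using Submodule.span_induction with
  | mem u hu =>
    obtain ⟨n, g, hg, hgY, rfl⟩ := hu
    have hprod : ∀ s : Finset ↥H, ∃ y : ↥N, y ∈ γ ↥N n ∧ (y : X) ∈ Y ∧
        ∑ a ∈ s, T ρ hN (a : Fin k → ZMod p) ((1 : Cy p) ⊗ₜ cls n g) = (1 : Cy p) ⊗ₜ cls n y ∧
        ∑ a ∈ s, phi (act ρ hN (a : Fin k → ZMod p)) (cls n g) = cls n y := by
      intro s
      induction s using Finset.induction_on with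
      | empty =>
        exact ⟨1, one_mem _, Y.one_mem, by rw [Finset.sum_empty, cls_one, TensorProduct.tmul_zero],
          by rw [Finset.sum_empty, cls_one]⟩
      | insert a s has ih =>
        obtain ⟨y, hy, hyY, e, e'⟩ := ih
        have hm := map_mem (act ρ hN (a : Fin k → ZMod p)) hg
        refine ⟨act ρ hN (a : Fin k → ZMod p) g * y, mul_mem hm hy,
          Y.mul_mem ((Subgroup.mem_normalizer_iff.mp (hY a.1 a.2) _).mp hgY) hyY, ?_, ?_⟩
        · rw [Finset.sum_insert has, e, T_tmul, phi_cls _ hg, cls_mul hm hy, TensorProduct.tmul_add]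
        · rw [Finset.sum_insert has, e', phi_cls _ hg, cls_mul hm hy]
    obtain ⟨y, hy, hyY, e, e'⟩ := hprod Finset.univ
    rw [e]
    have hfixy : ∀ b ∈ H, cls n (act ρ hN b y) = cls n y := by
      intro b hb
      rw [← phi_cls _ hy, ← e', map_sum]
      refine Fintype.sum_equiv (Equiv.addLeft (⟨b, hb⟩ : ↥H)) _ _ fun a => ?_
      rw [phi_phi, act_add]
      rfl
    set A : Subgroup X := (AddSubgroup.toSubgroup H).map ρ with hA
    let K : Subgroup X := Y ⊓ (γ ↥N n).map N.subtype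
    let N' : Subgroup X := Y ⊓ (γ ↥N (n + 1)).map N.subtype
    have hconj : ∀ (m : ℕ) (b : Fin k → ZMod p), b ∈ H → ∀ x ∈ Y ⊓ (γ ↥N m).map N.subtype,
        ρ (Multiplicative.ofAdd b) * x * (ρ (Multiplicative.ofAdd b))⁻¹ ∈
          Y ⊓ (γ ↥N m).map N.subtype := by
      rintro m b hb x ⟨hxY, z, hz, rfl⟩
      exact ⟨(Subgroup.mem_normalizer_iff.mp (hY b hb) _).mp hxY, act ρ hN b z, map_mem _ hz, rfl⟩
    have hAN : A ≤ Subgroup.normalizer (N' : Set X) := by
      rintro x ⟨b, hb, rfl⟩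
      refine CfsgLib.Coprime.mem_normalizer_of_conj_map_le ?_
      exact fun z hz => hconj (n + 1) (Multiplicative.toAdd b) hb z hz
    have hKN : K ≤ Subgroup.normalizer (N' : Set X) := by
      refine Subgroup.le_normalizer_iff.2 ?_
      rintro x ⟨hxY, a, ha, rfl⟩ z ⟨hzY, b, hb, rfl⟩
      exact ⟨Y.mul_mem (Y.mul_mem hxY hzY) (Y.inv_mem hxY),
        ⟨a * b * a⁻¹, (γ_normal (n + 1)).conj_mem b hb a, rfl⟩⟩
    have hcopA : (Nat.card ↥A).Coprime (Nat.card ↥N') := by
      refine Nat.Coprime.coprime_dvd_left (Subgroup.card_map_dvd _ ρ) ?_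
      refine Nat.Coprime.coprime_dvd_left (Subgroup.card_subgroup_dvd_card _) ?_
      refine Nat.Coprime.coprime_dvd_right (Subgroup.card_dvd_of_le
        (show N' ≤ N from inf_le_right.trans (Subgroup.map_subtype_le _))) ?_
      simpa [ZMod.card] using hcop.symm.pow_left k
    have hsolvA : Group.IsSolvable ↥A := Group.isSolvable_of_comm (by
      rintro ⟨_, a, -, rfl⟩ ⟨_, b, -, rfl⟩
      exact Subtype.ext (by
        show ρ a * ρ b = ρ b * ρ a
        rw [← map_mul, mul_comm, map_mul]))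
    have hkk : ∀ x ∈ A, ⁅x, (y : X)⁆ ∈ N' := by
      rintro x ⟨b, hb, rfl⟩
      set b' : Fin k → ZMod p := Multiplicative.toAdd b
      have hq := DirectSum.of_injective n (hfixy b' hb)
      have hmem : act ρ hN b' y * y⁻¹ ∈ γ ↥N (n + 1) := by
        have h1 := (q_eq_iff hy (map_mem _ hy)).mp hq.symm
        have h2 := (γ_normal (n + 1)).conj_mem _ h1 y
        simpa [mul_assoc] using h2
      refine ⟨?_, _, hmem, rfl⟩
      rw [commutatorElement_def]
      exact Y.mul_mem ((Subgroup.mem_normalizer_iff.mp (hY b' hb) _).mp hyY) (Y.inv_mem hyY)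
    obtain ⟨z, ⟨⟨hzY, z₀, hz₀, rfl⟩, hzc⟩, hyz⟩ :=
      CfsgLib.Coprime.exists_centralizer_inv_mul_mem (K := K) hAN
        (inf_le_inf_left _ (Subgroup.map_mono (γ_anti (Nat.le_succ n)))) hKN hcopA
        (.inl hsolvA) (k := (y : X)) ⟨hyY, y, hy, rfl⟩ hkk
    have hcls : cls n y = cls n z₀ := by
      obtain ⟨-, u, hu, hu'⟩ := hyz
      rw [cls, cls, (q_eq_iff hy hz₀).mpr]
      rwa [show y⁻¹ * z₀ = u from Subtype.ext hu'.symm]
    rw [hcls]
    refine tmul_mem_Sp hz₀ ⟨hzY, mem_cent.mpr fun b hb => ?_⟩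
    exact Subgroup.mem_centralizer_iff.mp hzc _ ⟨Multiplicative.ofAdd b, hb, rfl⟩
  | zero => simp
  | add a b _ _ ha hb => simp only [map_add, Finset.sum_add_distrib]; exact add_mem ha hb
  | smul r a _ ha => simp only [map_smul, ← Finset.smul_sum]; exact S.smul_mem r ha

omit [Fact p.Prime] [Finite X] in
theorem Sp_top : Sp p N (⊤ : Subgroup X) = ⊤ := by
  rw [eq_top_iff]
  intro v hv
  clear hv
  induction v using TensorProduct.induction_on with
  | zero => exact zero_mem _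
  | tmul r x =>
    suffices h : (1 : Cy p) ⊗ₜ x ∈ Sp p N (⊤ : Subgroup X) by
      have h' := Submodule.smul_mem _ r h
      rwa [TensorProduct.smul_tmul', smul_eq_mul, mul_one] at h'
    induction x using lie_induction with
    | h0 => rw [TensorProduct.tmul_zero]; exact zero_mem _
    | hadd a b ha hb => rw [TensorProduct.tmul_add]; exact add_mem ha hb
    | hcls n g hg => exact tmul_mem_Sp hg (Subgroup.mem_top _)
  | add u w hu hw => exact add_mem hu hw

include hcop in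
theorem Ew_le_Sp_cent {w : Fin k → ZMod p} (H : AddSubgroup (Fin k → ZMod p))
    (hH : ∀ a ∈ H, dot w a = 0) {Y : Subgroup X}
    (hY : ∀ a, ρ a ∈ Subgroup.normalizer (Y : Set X)) {v : LX p N} (hv : v ∈ Ew ρ hN w)
    (hvY : v ∈ Sp p N Y) : v ∈ Sp p N (Y ⊓ cent ρ (H : Set (Fin k → ZMod p))) :=
  lift ρ hN hcop H (fun _ _ => hY _) hvY fun a ha => by
    rw [(mem_Ew ρ hN).mp hv a, hH a ha, zt_zero, one_smul]

/-! ### The bound -/

omit [Fact p.Prime] [Finite X] in
theorem mem_iSup_toAddSubgroup {ι : Type*} (A : ι → Submodule (Cy p) (LX p N)) {v : LX p N}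
    (h : v ∈ ⨆ i, A i) : v ∈ ⨆ i, (A i).toAddSubgroup :=
  Submodule.iSup_induction A (motive := fun v => v ∈ ⨆ i, (A i).toAddSubgroup) h
    (fun i a ha => le_iSup (fun i => (A i).toAddSubgroup) i ha) (zero_mem _)
    (fun _ _ ha hb => add_mem ha hb)

omit [Fact p.Prime] in
theorem normalizer_commutator {A B : Subgroup X} {x : X}
    (hA : x ∈ Subgroup.normalizer (A : Set X)) (hB : x ∈ Subgroup.normalizer (B : Set X)) :
    x ∈ Subgroup.normalizer ((⁅A, B⁆ : Subgroup X) : Set X) := by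
  have key : ⁅A, B⁆ ≤ (⁅A, B⁆ : Subgroup X).comap (MulAut.conj x).toMonoidHom := by
    rw [Subgroup.commutator_le]
    intro a ha b hb
    rw [Subgroup.mem_comap, map_commutatorElement]
    exact Subgroup.commutator_mem_commutator ((Subgroup.mem_normalizer_iff.mp hA a).mp ha)
      ((Subgroup.mem_normalizer_iff.mp hB b).mp hb)
  exact CfsgLib.Coprime.mem_normalizer_of_conj_map_le fun z hz => key hz

omit [Fact p.Prime] [Finite X] in
theorem map_lcs {G H : Type*} [Group G] [Group H] (f : G →* H) (K : Subgroup G) :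
    ∀ n : ℕ, (K.lowerCentralSeries n).map f = (K.map f).lowerCentralSeries n
  | 0 => rfl
  | n + 1 => by
    show (⁅K.lowerCentralSeries n, K⁆).map f = ⁅(K.map f).lowerCentralSeries n, K.map f⁆
    rw [Subgroup.map_commutator, map_lcs f K n]

/-- The class of a nilpotent group generated by finitely many subgroups, each lying in nilpotent
subgroups, normal in fixed-point groups, for all `a` in a large set. -/
theorem class_le (hnil : Group.IsNilpotent ↥N) (hcop : (Nat.card ↥N).Coprime p) {ι : Type*} [Fintype ι]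
    (D : ι → Subgroup X) (L : ι → List (Fin k → ZMod p)) (V : (Fin k → ZMod p) → Subgroup X)
    {R c : ℕ} (hR : Fintype.card ι ≤ R) (hN : ∀ a, ρ a ∈ Subgroup.normalizer (N : Set X))
    (hgen : N ≤ ⨆ i, D i) (hDN : ∀ i, D i ≤ N)
    (hDinv : ∀ i a, ρ a ∈ Subgroup.normalizer (D i : Set X))
    (hrank : ∀ i φ, ∃ a, a ≠ 0 ∧ (∀ v ∈ L i, dot v a = 0) ∧ dot φ a = 0)
    (hDV : ∀ i a, a ≠ 0 → (∀ v ∈ L i, dot v a = 0) → D i ≤ V a)
    (hVc : ∀ a, a ≠ 0 → V a ≤ cent ρ {a})
    (hVn : ∀ a, a ≠ 0 → N ⊓ cent ρ {a} ≤ Subgroup.normalizer (V a : Set X))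
    (hV : ∀ a, a ≠ 0 → (V a).lowerCentralSeries c = ⊥)
    (hclose : ∀ i j v, ∃ l, ⁅D i, D j⁆ ⊓ cent ρ ((kerOf v : AddSubgroup (Fin k → ZMod p)) : Set (Fin k → ZMod p)) ≤ D l) :
    N.lowerCentralSeries (bnd p k R c k) = ⊥ := by
  classical
  let E : (Fin k → ZMod p) → AddSubgroup (LX p N) := fun w => (Ew ρ hN w).toAddSubgroup
  let P : ι → AddSubgroup (LX p N) := fun i => (Sp p N (D i)).toAddSubgroup
  let U : ι → AddSubgroup (LX p N) := fun i =>
    ⨅ a : {a : Fin k → ZMod p // a ≠ 0 ∧ ∀ v ∈ L i, dot v a = 0}, (Sp p N (V a.1)).toAddSubgroup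
  have hzm : ∀ (w a : Fin k → ZMod p), dot w a = 0 → ∀ b ∈ AddSubgroup.zmultiples a, dot w b = 0 :=
    fun w a h b hb => mem_kerOf.mp ((AddSubgroup.zmultiples_le_of_mem (mem_kerOf.mpr h)) hb)
  have hNC : ∀ w a, dot w a = 0 → ∀ x ∈ E w, x ∈ Sp p N (N ⊓ cent ρ {a}) := by
    intro w a h x hx
    have hall : x ∈ Sp p N N := by
      have hx' : x ∈ Sp p N (⊤ : Subgroup X) := by rw [Sp_top]; trivial
      exact Submodule.span_le.mpr (by
        rintro u ⟨n, g, hg, -, rfl⟩
        exact tmul_mem_Sp hg g.2) hx'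
    refine Sp_mono (inf_le_inf_left _ (cent_anti ?_))
      (Ew_le_Sp_cent ρ hN hcop (AddSubgroup.zmultiples a) (hzm w a h) hN hx hall)
    exact Set.singleton_subset_iff.mpr (AddSubgroup.mem_zmultiples a)
  have hE : ∀ w w', ∀ x ∈ E w, ∀ y ∈ E w', ⁅x, y⁆ ∈ E (w + w') :=
    fun w w' x hx y hy => Ew_lie ρ hN hx hy
  have hdecomp : ∀ {S : Submodule (Cy p) (LX p N)} {v : LX p N},
      (∀ w, proj ρ hN w v ∈ S) → v ∈ S := by
    intro S v h
    refine mem_of_nsmul_mem (k := k) hcop (dvd_refl (p ^ k)) ?_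
    rw [← sum_proj ρ hN v]
    exact sum_mem fun w _ => h w
  have htop : ⨆ w, E w = ⊤ := by
    rw [eq_top_iff]
    intro v _
    have hle : ∀ w, Ew ρ hN w ≤ ⨆ w, Ew ρ hN w := le_iSup _
    have h : v ∈ ⨆ w, Ew ρ hN w := hdecomp fun w => hle w (proj_mem ρ hN w v)
    exact mem_iSup_toAddSubgroup _ h
  have hclose' : ∀ i j w w', ∃ l, ∀ x ∈ P i ⊓ E w, ∀ y ∈ P j ⊓ E w', ⁅x, y⁆ ∈ P l := by
    intro i j w w'
    obtain ⟨l, hl⟩ := hclose i j (w + w')
    refine ⟨l, fun x hx y hy => Sp_mono hl ?_⟩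
    refine Ew_le_Sp_cent ρ hN hcop (kerOf (w + w')) (fun a ha => ha) ?_ (hE w w' x hx.2 y hy.2) ?_
    · intro a
      exact normalizer_commutator (hDinv i a) (hDinv j a)
    · exact lie_mem_Sp (fun g hg g' hg' _ _ => Subgroup.commutator_mem_commutator hg hg') hx.1 hy.1
  have hproj : ∀ i w x, x ∈ Sp p N (D i) → proj ρ hN w x ∈ P i ⊓ E w := fun i w x hx =>
    ⟨proj_mem_Sp ρ hN (hDinv i) w hx, proj_mem ρ hN w x⟩
  -- the classes of the `D i` span everything
  let S : Submodule (Cy p) (LX p N) := ⨆ i, Sp p N (D i)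
  have hSS : ∀ x ∈ S, ∀ y ∈ S, ⁅x, y⁆ ∈ S := by
    intro x hx y hy
    refine Submodule.iSup_induction _ (motive := fun x => ⁅x, y⁆ ∈ S) hx (fun i a ha => ?_)
      (by rw [zero_lieX]; exact zero_mem _) (fun u v hu hv => by rw [add_lieX]; exact add_mem hu hv)
    refine Submodule.iSup_induction _ (motive := fun y => ⁅a, y⁆ ∈ S) hy (fun j b hb => ?_)
      (by rw [lie_zeroX]; exact zero_mem _) (fun u v hu hv => by rw [lie_addX]; exact add_mem hu hv)
    refine mem_of_nsmul_mem (k := k) hcop (dvd_refl (p ^ k)) ?_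
    have hb' : ∀ w, ⁅proj ρ hN w a, (p ^ k) • b⁆ ∈ S := by
      intro w
      rw [← sum_proj ρ hN b, lie_sumX]
      refine sum_mem fun w' _ => ?_
      obtain ⟨l, hl⟩ := hclose' i j w w'
      exact Submodule.mem_iSup_of_mem l (hl _ (hproj i w a ha) _ (hproj j w' b hb))
    refine mem_of_nsmul_mem (k := k) hcop (dvd_refl (p ^ k)) ?_
    rw [← lie_nsmulX, ← nsmul_lieX, ← sum_proj ρ hN a, sum_lieX]
    exact sum_mem fun w _ => hb' w
  have h0 : ∀ g : ↥N, g ∈ γ ↥N 0 → (1 : Cy p) ⊗ₜ cls 0 g ∈ S := by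
    intro g _
    have hg : g ∈ ⨆ i, (D i).subgroupOf N := by
      have h1 : (g : X) ∈ ⨆ i, D i := hgen g.2
      have h2 : (⨆ i, (D i).subgroupOf N).map N.subtype = ⨆ i, D i := by
        rw [Subgroup.map_iSup]
        exact iSup_congr fun i => Subgroup.map_subgroupOf_eq_of_le (hDN i)
      rw [← h2] at h1
      obtain ⟨g', hg', e⟩ := h1
      rwa [← show g' = g from Subtype.ext e]
    refine Subgroup.iSup_induction _ (C := fun g => (1 : Cy p) ⊗ₜ cls 0 g ∈ S) hg
      (fun i a ha => ?_) (by rw [cls_one, TensorProduct.tmul_zero]; exact zero_mem _)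
      (fun u v hu hv => ?_)
    · exact Submodule.mem_iSup_of_mem i (tmul_mem_Sp (Subgroup.mem_top _) ha)
    · rw [cls_mul (Subgroup.mem_top _) (Subgroup.mem_top _), TensorProduct.tmul_add]
      exact add_mem hu hv
  have hcls : ∀ (n : ℕ) (g : ↥N), g ∈ γ ↥N n → (1 : Cy p) ⊗ₜ cls n g ∈ S := by
    intro n
    induction n with
    | zero => exact h0
    | succ n ih =>
      intro g hg
      suffices h : g ∈ γ ↥N (n + 1) ∧ (1 : Cy p) ⊗ₜ cls (n + 1) g ∈ S from h.2
      have hle : γ ↥N (n + 1) ≤ Subgroup.closure {z | ∃ a ∈ γ ↥N n, ∃ b : ↥N, ⁅a, b⁆ = z} := by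
        rw [γ_succ, Subgroup.commutator_le]
        exact fun a ha b _ => Subgroup.subset_closure ⟨a, ha, b, rfl⟩
      have hg' := hle hg
      clear hg
      induction hg' using Subgroup.closure_induction with
      | mem z hz =>
        obtain ⟨a, ha, b, rfl⟩ := hz
        have hb : b ∈ γ ↥N 0 := Subgroup.mem_top b
        have h1 := comm_mem ha hb
        have h2 := lie_cls ha hb
        rw [Nat.add_zero] at h1 h2
        refine ⟨h1, ?_⟩
        rw [← h2, ← show (1 : Cy p) * 1 = 1 from one_mul 1, ← LieAlgebra.ExtendScalars.bracket_tmul]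
        exact hSS _ (ih a ha) _ (h0 b hb)
      | one => exact ⟨one_mem _, by rw [cls_one, TensorProduct.tmul_zero]; exact zero_mem _⟩
      | mul a b _ _ h1 h2 =>
        exact ⟨mul_mem h1.1 h2.1,
          by rw [cls_mul h1.1 h2.1, TensorProduct.tmul_add]; exact add_mem h1.2 h2.2⟩
      | inv a _ h1 =>
        exact ⟨inv_mem h1.1, by rw [cls_inv h1.1, TensorProduct.tmul_neg]; exact neg_mem h1.2⟩
  have hStop : ∀ v : LX p N, v ∈ S := by
    intro v
    have hv : v ∈ Sp p N (⊤ : Subgroup X) := by rw [Sp_top]; trivial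
    exact Submodule.span_le.mpr (by rintro u ⟨n, g, hg, -, rfl⟩; exact hcls n g hg) hv
  have hspan : ∀ w, E w ≤ ⨆ i, P i ⊓ E w := by
    intro w v hv
    have h : v ∈ ⨆ i, Sp p N (D i) ⊓ Ew ρ hN w := by
      refine mem_of_nsmul_mem (k := k) hcop (dvd_refl (p ^ k)) ?_
      rw [← proj_eq ρ hN hv]
      refine Submodule.iSup_induction _
        (motive := fun u => proj ρ hN w u ∈ ⨆ i, Sp p N (D i) ⊓ Ew ρ hN w) (hStop v)
        (fun i a ha => Submodule.mem_iSup_of_mem i (hproj i w a ha))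
        (by rw [map_zero]; exact zero_mem _) (fun a b ha hb => by rw [map_add]; exact add_mem ha hb)
    have h' : v ∈ ⨆ i, (Sp p N (D i) ⊓ Ew ρ hN w).toAddSubgroup := mem_iSup_toAddSubgroup _ h
    have hle : (⨆ i, (Sp p N (D i) ⊓ Ew ρ hN w).toAddSubgroup) ≤ ⨆ i, P i ⊓ E w :=
      iSup_mono fun i x hx => by
        rw [Submodule.mem_toAddSubgroup, Submodule.mem_inf] at hx
        exact AddSubgroup.mem_inf.mpr ⟨hx.1, hx.2⟩
    exact hle h'
  have hPU : ∀ i, P i ≤ U i := fun i => le_iInf fun a => Sp_mono (hDV i a.1 a.2.1 a.2.2)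
  have hid : ∀ i, ∀ x ∈ U i, ∀ y ∈ E 0, ⁅x, y⁆ ∈ U i := by
    intro i x hx y hy
    rw [AddSubgroup.mem_iInf] at hx ⊢
    intro a
    refine lie_mem_Sp (fun g hg h hh _ _ => ?_) (hx a) (hNC 0 a.1 (zero_dot a.1) y hy)
    rw [commutatorElement_def, show g * h * g⁻¹ * h⁻¹ = g * (h * g⁻¹ * h⁻¹) by group]
    exact mul_mem hg ((Subgroup.mem_normalizer_iff.mp (hVn a.1 a.2.1 hh) _).mp (inv_mem hg))
  have hU : ∀ i, (Br (U i))^[c + 1] ⊤ = ⊥ := by
    intro i
    rw [eq_bot_iff, ← htop]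
    refine (Br_iterate_iSup_le _ _ _).trans (iSup_le fun φ => ?_)
    obtain ⟨a, ha, haL, haφ⟩ := hrank i φ
    have h1 : U i ≤ (Sp p N (V a)).toAddSubgroup :=
      iInf_le_of_le ⟨a, ha, haL⟩ le_rfl
    have h2 : E φ ≤ (Sp p N (N ⊓ cent ρ {a})).toAddSubgroup := fun x hx => hNC φ a haφ x hx
    refine (Br_iterate_mono h1 _ h2).trans ?_
    have h3 : ∀ q, (Br (Sp p N (V a)).toAddSubgroup)^[q + 1] (Sp p N (N ⊓ cent ρ {a})).toAddSubgroup
        ≤ (Sp p N ((V a).lowerCentralSeries q)).toAddSubgroup := by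
      intro q
      induction q with
      | zero =>
        refine Br_le fun x hx y hy => lie_mem_Sp (fun g hg h hh _ _ => ?_) hx hy
        rw [commutatorElement_def]
        exact mul_mem ((Subgroup.mem_normalizer_iff.mp (hVn a ha hg) _).mp hh) (inv_mem hh)
      | succ q ihq =>
        rw [Function.iterate_succ_apply']
        refine (Br_mono le_rfl ihq).trans (Br_le fun x hx y hy => lie_mem_Sp
          (fun g hg h hh _ _ => Subgroup.commutator_mem_commutator hg hh) hx hy)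
    refine (h3 c).trans ?_
    rw [hV a ha, Sp_bot]
    exact le_of_eq rfl
  have hres := nil_of_types E P U hR hE htop hPU hU hid hspan hclose'
  set B := bnd p k R c k with hB
  obtain ⟨f, hf⟩ := exists_retraction p
  have hinj : ∀ x : LieR ↥N, (1 : Cy p) ⊗ₜ[ℤ] x = 0 → x = 0 := by
    intro x hx
    have h := congrArg (TensorProduct.lift ((LinearMap.lsmul ℤ (LieR ↥N)).comp f.toIntLinearMap)) hx
    simpa [hf] using h
  have hW : ∀ r, ∀ x ∈ W ↥N r, (1 : Cy p) ⊗ₜ x ∈ (Br (⊤ : AddSubgroup (LX p N)))^[r] ⊤ := by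
    intro r
    induction r with
    | zero => intro x _; trivial
    | succ r ih =>
      intro x hx
      rw [Function.iterate_succ_apply']
      induction hx using AddSubgroup.closure_induction with
      | mem z hz =>
        obtain ⟨u, hu, v, rfl⟩ := hz
        rw [← show (1 : Cy p) * 1 = 1 from one_mul 1, ← LieAlgebra.ExtendScalars.bracket_tmul]
        exact lie_mem_Br (ih u hu) trivial
      | zero => rw [TensorProduct.tmul_zero]; exact zero_mem _
      | add a b _ _ ha hb => rw [TensorProduct.tmul_add]; exact add_mem ha hb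
      | neg a _ ha => rw [TensorProduct.tmul_neg]; exact neg_mem ha
  have hWB : W ↥N B = ⊥ := by
    rw [eq_bot_iff]
    intro x hx
    have h := hW B x hx
    rw [hres, AddSubgroup.mem_bot] at h
    rw [AddSubgroup.mem_bot]
    exact hinj x h
  haveI := hnil
  obtain ⟨m, hm⟩ := (Subgroup.nilpotent_iff_lowerCentralSeries (G := ↥N)).mp hnil
  have hstab : ∀ j : ℕ, γ ↥N B ≤ γ ↥N (B + j) := by
    intro j
    induction j with
    | zero => exact le_rfl
    | succ j ih =>
      refine (γ_le_of_W_eq_bot hWB).trans ?_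
      rw [← add_assoc, γ_succ, γ_succ]
      exact Subgroup.commutator_mono ih le_rfl
  have hγ : γ ↥N B = ⊥ :=
    le_bot_iff.mp ((hstab m).trans ((γ_anti (Nat.le_add_left m B)).trans hm.le))
  have h := map_lcs N.subtype (⊤ : Subgroup ↥N) B
  rw [← MonoidHom.range_eq_map, Subgroup.range_subtype, show ((⊤ : Subgroup ↥N).lowerCentralSeries B) = ⊥
    from hγ, Subgroup.map_bot] at h
  exact h.symm

end CfsgLib.PGroup.FixedTerms
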